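import Groth.Agent.EulerDeg.Supported
import Groth.Agent.PicAux.Integral
import Groth.Agent.PicAux.QCoh
import Groth.Agent.LocFree.Basic
import Groth.Agent.KTheory.LocFree
import Groth.Agent.QCohMod.Coherent
import Groth.Agent.CohTwo.Glue

/-!
# Nonzero maps of invertible modules on an integral scheme, and degrees on curves
-/

universe u

open CategoryTheory Limits AlgebraicGeometry Coh TopologicalSpace Opposite

namespace Groth.EulerDeg

open Groth.PicAux

variable {X : Scheme.{u}}

theorem isCoh_of_isInvertible {L : X.Modules} (hL : PicF.IsInvertible L) : IsCoh L :=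
  KTheory.LocFree.isCoh (fun x =>
    let ⟨U, hx, e⟩ := LocFree.isInvertible_iff_ofRank_one.mp hL x
    ⟨U, 1, hx, e⟩)

theorem isInvertible_structureModule (X : Scheme.{u}) : PicF.IsInvertible (structureModule X) :=
  isInvertible_of_gen_cover (fun _ : Unit => ⊤) (by simp) _ fun _ => gen_oneSec ⊤

variable [IsIntegral X] {N L : X.Modules} (hN : PicF.IsInvertible N) (hL : PicF.IsInvertible L)
  {φ : N ⟶ L} (hφ : φ ≠ 0)

include hN hL hφ in
/-- On common frames a nonzero map has nonzero coefficient. -/
theorem coeff_ne_zero {V : X.Opens} [hV : Nonempty V] {g : Γ(N, V)} {e : Γ(L, V)}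
    (hg : Gen N V g) {c : Γ(X, V)} (hc : φ.app V g = c • e) : c ≠ 0 := by
  rintro rfl
  rw [zero_smul] at hc
  apply hφ
  obtain ⟨W, s, hW, hmem, hs⟩ := exists_gen_cover hN
  refine hom_ext_gen hW s hs fun i => ?_
  change φ.app (W i) (s i) = 0
  obtain ⟨⟨y, hy⟩⟩ := hV
  obtain ⟨z, hz1, hz2⟩ := nonempty_preirreducible_inter V.isOpen (W i).isOpen ⟨y, hy⟩ ⟨i, hmem i⟩
  refine inv_sec_eq_zero hL (inf_le_right : V ⊓ W i ≤ W i) ⟨⟨z, hz1, hz2⟩⟩ _ ?_
  obtain ⟨r, hr⟩ := hg.exists_coeff (inf_le_left : V ⊓ W i ≤ V) (res N inf_le_right (s i))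
  rw [← app_res, hr, Scheme.Modules.Hom.app_smul, app_res, hc, res_zero, smul_zero]

omit [IsIntegral X] in
include hN hL in
/-- Common frames of two invertible modules. -/
theorem exists_frames (x : X) :
    ∃ (V : X.Opens) (g : Γ(N, V)) (e : Γ(L, V)) (c : Γ(X, V)),
      x ∈ V ∧ Gen N V g ∧ Gen L V e ∧ φ.app V g = c • e := by
  obtain ⟨U, g, hxU, hg⟩ := (isInvertible_iff_exists_gen N).1 hN x
  obtain ⟨U', e, hxU', he⟩ := (isInvertible_iff_exists_gen L).1 hL x
  have hg' := hg.res (inf_le_left : U ⊓ U' ≤ U)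
  have he' := he.res (inf_le_right : U ⊓ U' ≤ U')
  obtain ⟨c, hc⟩ := he'.exists_coeff le_rfl (φ.app (U ⊓ U') (res N inf_le_left g))
  rw [res_self] at hc
  exact ⟨U ⊓ U', _, _, c, ⟨hxU, hxU'⟩, hg', he', hc⟩

include hN hL hφ in
theorem app_injective_of_ne_zero (U : X.Opens) : Function.Injective (φ.app U) := by
  intro a b hab
  rw [← sub_eq_zero]
  have hn : φ.app U (a - b) = 0 := by rw [map_sub, hab, sub_self]
  generalize a - b = n at hn ⊢
  choose V g e c hxV hg he hc using exists_frames (φ := φ) hN hL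
  have hV : iSup V = ⊤ := eq_top_iff.2 fun x _ => Opens.mem_iSup.2 ⟨x, hxV x⟩
  refine res_ext (fun i => U ⊓ V i) (fun _ => inf_le_left) (le_iSup_inf hV U) fun i => ?_
  rw [res_zero]
  obtain ⟨r, hr⟩ := (hg i).exists_coeff inf_le_right (res N (inf_le_left : U ⊓ V i ≤ U) n)
  have h1 := congrArg (φ.app (U ⊓ V i)) hr
  rw [app_res, hn, res_zero, Scheme.Modules.Hom.app_smul, app_res, hc i, res_smul, ← mul_smul] at h1
  by_cases hne : Nonempty (U ⊓ V i : X.Opens)
  · have h0 : r * resX X (inf_le_right : U ⊓ V i ≤ V i) (c i) = 0 :=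
      (he i).smul_inj inf_le_right (by rw [← h1, zero_smul])
    have : Nonempty (V i) := ⟨⟨i, hxV i⟩⟩
    have hc0 : resX X (inf_le_right : U ⊓ V i ≤ V i) (c i) ≠ 0 := fun h => by
      refine coeff_ne_zero hN hL hφ (hg i) (hc i) ?_
      exact map_injective_of_isIntegral X (homOfLE (inf_le_right : U ⊓ V i ≤ V i))
        (by rw [map_zero]; exact h)
    have hr0 : r = 0 := (mul_eq_zero.1 h0).resolve_right hc0
    rw [hr, hr0, zero_smul]
  · have hb : (U ⊓ V i : X.Opens) = ⊥ := by
      rw [← Opens.not_nonempty_iff_eq_bot]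
      exact fun ⟨p, hp⟩ => hne ⟨⟨p, hp⟩⟩
    have : Subsingleton Γ(X, U ⊓ V i) := by rw [hb]; infer_instance
    rw [hr, Subsingleton.elim r 0, zero_smul]

include hN hL hφ in
/-- A nonzero map of invertible modules on an integral scheme is a monomorphism. -/
theorem mono_of_ne_zero : Mono φ :=
  (CohTwo.mono_iff_app_injective φ).2 (app_injective_of_ne_zero hN hL hφ)

include hN hL hφ in
/-- Such a map is surjective at the generic point. -/
theorem surjective_stalk_genericPoint :
    Function.Surjective ((Groth.QCohMod.stalk (genericPoint X)).map φ) := by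
  intro t
  obtain ⟨V, g, e, c, hxV, hg, he, hc⟩ := exists_frames (φ := φ) hN hL (genericPoint X)
  obtain ⟨U, hxU, l, rfl⟩ := TopCat.Presheaf.exists_germ_eq L.presheaf t
  have : Nonempty V := ⟨⟨_, hxV⟩⟩
  have hu : IsUnit (X.presheaf.germ V (genericPoint X) hxV c) := by
    refine Ne.isUnit fun h => coeff_ne_zero hN hL hφ hg hc ?_
    exact X.germToFunctionField_injective V (by rw [map_zero]; exact h)
  have hxb : genericPoint X ∈ X.basicOpen c := (X.mem_basicOpen c _ hxV).2 hu
  let W : X.Opens := U ⊓ X.basicOpen c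
  have hWU : W ≤ U := inf_le_left
  have hWV : W ≤ V := inf_le_right.trans (X.basicOpen_le c)
  have hcu : IsUnit (resX X hWV c) := by
    have := (RingedSpace.isUnit_res_basicOpen X.toLocallyRingedSpace.toRingedSpace c).map
      (X.presheaf.map (homOfLE (inf_le_right : W ≤ X.basicOpen c)).op).hom
    rw [← resX_resX (X.basicOpen_le c) (inf_le_right : W ≤ X.basicOpen c)]
    exact this
  obtain ⟨r, hr⟩ := he.exists_coeff hWV (res L hWU l)
  have hval : φ.app W ((r * ↑hcu.unit⁻¹) • res N hWV g) = res L hWU l := by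
    rw [Scheme.Modules.Hom.app_smul, app_res, hc, res_smul, ← mul_smul, mul_assoc,
      IsUnit.val_inv_mul, mul_one, hr]
  refine ⟨N.presheaf.germ W _ ⟨hxU, hxb⟩ ((r * ↑hcu.unit⁻¹) • res N hWV g), ?_⟩
  change (TopCat.Presheaf.stalkFunctor Ab.{u} (genericPoint X)).map φ.mapPresheaf _ = _
  erw [TopCat.Presheaf.stalkFunctor_map_germ_apply]
  exact (congrArg _ hval).trans (TopCat.Presheaf.germ_res_apply L.presheaf (homOfLE hWU) _ _ l)

include hN hL hφ in
/-- On an integral curve the cokernel of a nonzero map of invertible modules is supported at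
closed points. -/
theorem supportedAtClosed_cokernel [NoetherianSpace X] (hdim : topologicalKrullDim X ≤ 1) :
    SupportedAtClosed (cokernel φ) := by
  intro x hx
  by_contra hxc
  apply hx
  have hxη : genericPoint X = x :=
    @eq_of_specializes_of_not_isClosed X.toTopCat (inferInstanceAs (T0Space X))
      (inferInstanceAs (QuasiSober X)) hdim x (genericPoint X) hxc
      ((genericPoint_spec X).specializes trivial)
  subst hxη
  have : Epi ((Groth.QCohMod.stalk (genericPoint X)).map φ) :=
    (AddCommGrpCat.epi_iff_surjective _).2 (surjective_stalk_genericPoint hN hL hφ)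
  have hz : IsZero ((Groth.QCohMod.stalk (genericPoint X)).obj (cokernel φ)) :=
    (isZero_cokernel_of_epi ((Groth.QCohMod.stalk (genericPoint X)).map φ)).of_iso
      (PreservesCokernel.iso (Groth.QCohMod.stalk (genericPoint X)) φ)
  exact AddCommGrpCat.subsingleton_of_isZero hz

variable (k : Type u) [Field k] [X.Over (Spec (CommRingCat.of k))]
  [IsProper (X ↘ Spec (CommRingCat.of k))] (hdim : topologicalKrullDim X ≤ 1)

include hN hL hφ in
/-- The difference of degrees is the Euler characteristic of the cokernel. -/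
theorem deg_sub_eq_euler_cokernel :
    Curv2.deg k X L 1 - Curv2.deg k X N 1 = Curv2.euler k X (cokernel φ) := by
  have := mono_of_ne_zero hN hL hφ
  have := (isCoh_of_isInvertible hN).1
  have hS : (ShortComplex.mk φ (cokernel.π φ) (cokernel.condition φ)).ShortExact :=
    { exact := ShortComplex.exact_cokernel φ }
  have := euler_add hS (finCoh k X (isCoh_of_isInvertible hN))
    (finCoh k X (Groth.QCohMod.isCoh_cokernel φ (isCoh_of_isInvertible hL)))
  simp only [Curv2.deg] at *
  omega

include hN hL hφ hdim in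
/-- A nonzero map of invertible modules on an integral curve increases the degree, and is an
isomorphism when it does not. -/
theorem deg_le_and_isIso :
    Curv2.deg k X N 1 ≤ Curv2.deg k X L 1 ∧
      (Curv2.deg k X L 1 ≤ Curv2.deg k X N 1 → IsIso φ) := by
  have := noetherianSpace_of_proper k X
  have hs := supportedAtClosed_cokernel hN hL hφ hdim
  have he := deg_sub_eq_euler_cokernel hN hL hφ k
  have := euler_nonneg k hs
  refine ⟨by omega, fun hle => ?_⟩
  have := mono_of_ne_zero hN hL hφ
  have := (isCoh_of_isInvertible hN).1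
  have hz : IsZero (cokernel φ) :=
    isZero_of_euler_nonpos k (Groth.QCohMod.isCoh_cokernel φ (isCoh_of_isInvertible hL)) hs (by omega)
  have : Epi φ := Preadditive.epi_of_cokernel_zero (hz.eq_of_tgt _ _)
  exact isIso_of_mono_of_epi φ

end Groth.EulerDeg
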