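import Groth.Agent.EulerDeg.GenericFree
import Groth.Agent.EulerDeg.LineBundle
import Groth.Agent.KTheory.LambdaVb
import Groth.Agent.PicAux.TensorLift

/-!
# The degree of a tensor product
-/

universe u

open CategoryTheory Limits AlgebraicGeometry Coh TopologicalSpace Opposite

namespace Groth.EulerDeg

variable (k : Type u) [Field k] {X : Scheme.{u}} [X.Over (Spec (CommRingCat.of k))]
  [IsProper (X ↘ Spec (CommRingCat.of k))]

omit [X.Over (Spec (CommRingCat.of k))] [IsProper (X ↘ Spec (CommRingCat.of k))] in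
lemma isCoh_tensor {M N : X.Modules} (hM : IsCoh M) (hN : IsCoh N) :
    IsCoh (CohB1.tensorMod M N) :=
  have := hM.1
  have := hN.1
  ⟨Groth.QCohMod.isQCoh_tensorMod (M := M) (N := N), Groth.QCohMod.isFT_tensorMod hM.2 hN.2⟩

/-- `χ(V ⊗ F) - m χ(F)`. -/
noncomputable def tensorDefect (V : X.Modules) (m : ℕ) (F : X.Modules) : ℤ :=
  Curv2.euler k X (CohB1.tensorMod V F) - m * Curv2.euler k X F

variable {V : X.Modules} {m : ℕ} (hV : FlatMod.IsFinLocFreeOfRank m V)

include hV in
lemma tensorDefect_add {S : ShortComplex X.Modules} (hS : S.ShortExact)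
    (h₁ : IsCoh S.X₁) (h₂ : IsCoh S.X₂) (h₃ : IsCoh S.X₃) :
    tensorDefect k V m S.X₂ = tensorDefect k V m S.X₁ + tensorDefect k V m S.X₃ := by
  have := h₁.1
  have := h₂.1
  have := h₃.1
  have hVc : IsCoh V := KTheory.LocFree.isCoh (LocFree.isFinLocFree_of_rank hV)
  have hT := Groth.KTheory.LambdaVb.shortExact_tensor (LocFree.isFinLocFree_of_rank hV) hS
  have e := euler_add hT (finCoh k X (isCoh_tensor hVc h₁)) (finCoh k X (isCoh_tensor hVc h₃))
  have e' := euler_add hS (finCoh k X h₁) (finCoh k X h₃)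
  change Curv2.euler k X (CohB1.tensorMod V S.X₂) = Curv2.euler k X (CohB1.tensorMod V S.X₁) +
    Curv2.euler k X (CohB1.tensorMod V S.X₃) at e
  simp only [tensorDefect, e, e']
  ring

include hV in
lemma tensorDefect_of_supportedAtClosed {F : X.Modules} (hF : IsCoh F) (h : SupportedAtClosed F) :
    tensorDefect k V m F = 0 := by
  obtain ⟨b, -⟩ := Groth.PicAux.exists_braiding V F
  rw [tensorDefect, euler_congr k b, euler_tensor_of_supportedAtClosed k hF h hV, sub_self]

include hV in
/-- The defect is invariant under maps which are isomorphisms away from closed points. -/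
lemma tensorDefect_eq_of_hom {A B : X.Modules} (hA : IsCoh A) (hB : IsCoh B) (f : A ⟶ B)
    (hk : SupportedAtClosed (kernel f)) (hc : SupportedAtClosed (cokernel f)) :
    tensorDefect k V m A = tensorDefect k V m B := by
  have := isNoetherian_of_proper k X
  have := hA.1
  have := hB.1
  have hK : IsCoh (kernel f) := Groth.QCohMod.isCoh_of_mono (kernel.ι f) hA
  have hC : IsCoh (cokernel f) := Groth.QCohMod.isCoh_cokernel f hB
  have := hK.1
  have s1 : (ShortComplex.mk (kernel.ι f) (cokernel.π (kernel.ι f)) (cokernel.condition _)).ShortExact :=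
    { exact := ShortComplex.exact_cokernel _ }
  have hI : IsCoh (cokernel (kernel.ι f)) := Groth.QCohMod.isCoh_cokernel _ hA
  have s2 : (ShortComplex.mk (Abelian.image.ι f) (cokernel.π f) (kernel.condition _)).ShortExact :=
    { exact := ShortComplex.exact_kernel _ }
  have hI' : IsCoh (Abelian.image f) :=
    Groth.QCohMod.isCoh_of_iso (Abelian.coimageIsoImage f) hI
  have e1 := tensorDefect_add k hV s1 hK hA hI
  have e2 := tensorDefect_add k hV s2 hI' hB hC
  have e3 : tensorDefect k V m (cokernel (kernel.ι f)) = tensorDefect k V m (Abelian.image f) := by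
    have ea : Curv2.euler k X (CohB1.tensorMod V (cokernel (kernel.ι f))) =
        Curv2.euler k X (CohB1.tensorMod V (Abelian.image f)) :=
      euler_congr k (((DCoh.tensorBi (X := X)).obj V).mapIso (Abelian.coimageIsoImage f))
    have eb : Curv2.euler k X (cokernel (kernel.ι f)) = Curv2.euler k X (Abelian.image f) :=
      euler_congr k (Abelian.coimageIsoImage f)
    simp only [tensorDefect]
    rw [ea, eb]
  simp only [tensorDefect_of_supportedAtClosed k hV hK hk,
    tensorDefect_of_supportedAtClosed k hV hC hc] at e1 e2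
  omega

/-- The sequence `M ⟶ M^(n+1) ⟶ M^n`. -/
lemma powSeq_shortExact (M : X.Modules) (n : ℕ) :
    ∃ (f : M ⟶ Groth.CohTwo.powMod M (n + 1))
      (g : Groth.CohTwo.powMod M (n + 1) ⟶ Groth.CohTwo.powMod M n) (w : f ≫ g = 0),
      (ShortComplex.mk f g w).ShortExact := by
  have sg : (Sigma.desc fun i : Fin n => Sigma.ι (fun _ : Fin (n + 1) => M) i.succ) ≫
      (∑ i : Fin n, Groth.CohTwo.powProj M i.succ ≫ Sigma.ι (fun _ : Fin n => M) i) =
        𝟙 (Groth.CohTwo.powMod M n) := by
    refine Sigma.hom_ext _ _ fun j => ?_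
    rw [Sigma.ι_desc_assoc, Preadditive.comp_sum, Category.comp_id, Finset.sum_eq_single j]
    · rw [← Category.assoc, Groth.CohTwo.ι_powProj, if_pos rfl, Category.id_comp]
    · intro i _ hi
      rw [← Category.assoc, Groth.CohTwo.ι_powProj, if_neg (fun h => hi (Fin.succ_injective n h).symm),
        zero_comp]
    · simp
  have tot : Groth.CohTwo.powProj M 0 ≫ Sigma.ι (fun _ : Fin (n + 1) => M) 0 +
      (∑ i : Fin n, Groth.CohTwo.powProj M i.succ ≫ Sigma.ι (fun _ : Fin n => M) i) ≫
        (Sigma.desc fun i : Fin n => Sigma.ι (fun _ : Fin (n + 1) => M) i.succ) =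
      𝟙 (Groth.CohTwo.powMod M (n + 1)) := by
    rw [← Groth.CohTwo.powProj_total M (n + 1), Fin.sum_univ_succ, Preadditive.sum_comp]
    congr 1
    refine Finset.sum_congr rfl fun i _ => ?_
    rw [Category.assoc, Sigma.ι_desc]
  have w : Sigma.ι (fun _ : Fin (n + 1) => M) 0 ≫
      (∑ i : Fin n, Groth.CohTwo.powProj M i.succ ≫ Sigma.ι (fun _ : Fin n => M) i) = 0 := by
    rw [Preadditive.comp_sum]
    refine Finset.sum_eq_zero fun i _ => ?_
    rw [← Category.assoc, Groth.CohTwo.ι_powProj, if_neg (Fin.succ_ne_zero i).symm, zero_comp]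
  exact ⟨_, _, w, ShortComplex.Splitting.shortExact
    { r := Groth.CohTwo.powProj M 0
      s := Sigma.desc fun i : Fin n => Sigma.ι (fun _ : Fin (n + 1) => M) i.succ
      f_r := (Groth.CohTwo.ι_powProj M 0 0).trans (if_pos rfl)
      s_g := sg
      id := tot }⟩

include hV in
lemma tensorDefect_powMod {M : X.Modules} (hM : IsCoh M) (n : ℕ) :
    tensorDefect k V m (Groth.CohTwo.powMod M n) = n * tensorDefect k V m M := by
  induction n with
  | zero =>
    rw [tensorDefect_of_supportedAtClosed k hV (Groth.CohTwo.isCoh_powMod hM 0)]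
    · simp
    · intro x hx
      refine absurd ((Groth.CohTwo.powStalk M 0 x).toEquiv.subsingleton) hx
  | succ n ih =>
    obtain ⟨f, g, w, hS⟩ := powSeq_shortExact M n
    have e := tensorDefect_add k hV hS hM (Groth.CohTwo.isCoh_powMod hM (n + 1)) (Groth.CohTwo.isCoh_powMod hM n)
    rw [e, ih]
    push_cast
    ring

variable (hdim : topologicalKrullDim X ≤ 1)

include hV hdim in
lemma tensorDefect_locFree {E : X.Modules} {n : ℕ} (hE : FlatMod.IsFinLocFreeOfRank n E) :
    tensorDefect k V m E = n * tensorDefect k V m (structureModule X) := by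
  have := isNoetherian_of_proper k X
  obtain ⟨A, p, q, U, hA, hU, hp, hq⟩ := exists_common X hdim hE
  have hO : IsCoh (structureModule X) := isCoh_of_isInvertible (isInvertible_structureModule X)
  have hp' := supportedAtClosed_kernel_cokernel p U hU
  have hq' := supportedAtClosed_kernel_cokernel q U hU
  rw [← tensorDefect_powMod k hV hO n,
    ← tensorDefect_eq_of_hom k hV hA (Groth.CohTwo.isCoh_powMod hO n) q hq'.1 hq'.2,
    tensorDefect_eq_of_hom k hV hA (KTheory.LocFree.isCoh (LocFree.isFinLocFree_of_rank hE)) p hp'.1 hp'.2]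

include hdim in
/-- `deg (E ⊗ V) = n deg V + m deg E`. -/
theorem deg_tensor {E V : X.Modules} {n m : ℕ} (hE : FlatMod.IsFinLocFreeOfRank n E)
    (hV : FlatMod.IsFinLocFreeOfRank m V) :
    Curv2.deg k X (CohB1.tensorMod E V) (n * m) =
      n * Curv2.deg k X V m + m * Curv2.deg k X E n := by
  have key := tensorDefect_locFree k hV hdim hE
  obtain ⟨b, -⟩ := Groth.PicAux.exists_braiding E V
  obtain ⟨b', -⟩ := Groth.PicAux.exists_braiding V (structureModule X)
  obtain ⟨l, -⟩ := Groth.PicAux.exists_leftUnitor V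
  simp only [tensorDefect] at key
  rw [euler_congr k (b' ≪≫ l)] at key
  simp only [Curv2.deg]
  rw [euler_congr k b]
  push_cast
  linear_combination key

include hdim in
/-- The degree of a tensor product of invertible modules. -/
theorem deg_tensor_invertible {M N : X.Modules} (hM : PicF.IsInvertible M)
    (hN : PicF.IsInvertible N) :
    Curv2.deg k X (CohB1.tensorMod M N) 1 = Curv2.deg k X M 1 + Curv2.deg k X N 1 := by
  have := deg_tensor k hdim (LocFree.isInvertible_iff_ofRank_one.mp hM)
    (LocFree.isInvertible_iff_ofRank_one.mp hN)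
  rw [one_mul] at this
  rw [this, Nat.cast_one]
  ring

end Groth.EulerDeg
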