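import Groth.Prelude.Def_Coh
import Groth.Agent.CohBase.Modules

/-!
# The long exact cohomology sequence as a sequence of modules over the base ring

For `X` over `Spec A` the maps in the long exact sequence of `Coh.HH X - n` are `A`-linear.
-/

universe u

open CategoryTheory Limits AlgebraicGeometry Opposite TopologicalSpace

namespace Groth.EulerDeg

open Coh

section Generic

universe w' w v u'

variable {C : Type u'} [Category.{v} C] {J : GrothendieckTopology C}
  [HasSheafify J AddCommGrpCat.{w}] [HasExt.{w'} (Sheaf J AddCommGrpCat.{w})]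
  {F G K : Sheaf J AddCommGrpCat.{w}} {f : F ⟶ G} {g : G ⟶ K} {w₀ : f ≫ g = 0}
  (h : (ShortComplex.mk f g w₀).ShortExact)

/-- The connecting map on sheaf cohomology. -/
noncomputable def conn (n : ℕ) : Sheaf.H K n →+ Sheaf.H F (n + 1) :=
  h.extClass.postcomp _ rfl

lemma conn_apply (n : ℕ) (x : Sheaf.H K n) : conn h n x = Abelian.Ext.comp x h.extClass rfl := rfl

include h in
lemma conn_natural (n : ℕ) (a : F ⟶ F) (b : G ⟶ G) (d : K ⟶ K) (h₁ : a ≫ f = f ≫ b)
    (h₂ : b ≫ g = g ≫ d) (x : Sheaf.H K n) :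
    conn h n (Sheaf.H.map d n x) = Sheaf.H.map a (n + 1) (conn h n x) := by
  have e := ShortComplex.ShortExact.extClass_naturality h h ⟨a, b, d, h₁, h₂⟩
  change (x.comp (Abelian.Ext.mk₀ d) (add_zero n)).comp h.extClass rfl =
    (x.comp h.extClass rfl).comp (Abelian.Ext.mk₀ a) (add_zero (n + 1))
  rw [Abelian.Ext.comp_assoc _ _ _ (add_zero n) (zero_add 1) (by omega),
    Abelian.Ext.comp_assoc _ _ _ rfl (add_zero 1) (by omega), e]

include h in
lemma hMap_exact_mid (n : ℕ) : Function.Exact (Sheaf.H.map f n) (Sheaf.H.map g n) := by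
  intro x
  constructor
  · intro hx
    exact Abelian.Ext.covariant_sequence_exact₂ _ h x hx
  · rintro ⟨y, rfl⟩
    rw [← Sheaf.H.map_comp_apply, w₀, Sheaf.H.map_apply, Abelian.Ext.mk₀_zero, Abelian.Ext.comp_zero]

lemma hMap_exact_right (n : ℕ) : Function.Exact (Sheaf.H.map g n) (conn h n) := by
  intro x
  constructor
  · intro hx
    exact Abelian.Ext.covariant_sequence_exact₃ _ h x rfl hx
  · rintro ⟨y, rfl⟩
    rw [conn_apply, Sheaf.H.map_apply]
    exact (Abelian.Ext.comp_assoc _ _ _ (add_zero n) (zero_add 1) (by omega)).trans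
      ((congrArg (fun z => y.comp z rfl) h.comp_extClass).trans (Abelian.Ext.comp_zero _ _ _ _ _))

lemma hMap_exact_left (n : ℕ) : Function.Exact (conn h n) (Sheaf.H.map f (n + 1)) := by
  intro x
  constructor
  · intro hx
    exact Abelian.Ext.covariant_sequence_exact₁ _ h x hx rfl
  · rintro ⟨y, rfl⟩
    rw [conn_apply, Sheaf.H.map_apply]
    exact (Abelian.Ext.comp_assoc _ _ _ rfl (add_zero 1) (by omega)).trans
      ((congrArg (fun z => y.comp z rfl) h.extClass_comp).trans (Abelian.Ext.comp_zero _ _ _ _ _))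

include h in
lemma hMap_injective_zero : Function.Injective (Sheaf.H.map f 0) := by
  haveI : Mono f := h.mono_f
  exact Abelian.Ext.postcomp_mk₀_injective_of_mono _ f

end Generic

variable {X : Scheme.{u}}

/-- The map of underlying abelian sheaves. -/
noncomputable abbrev abMap {M N : X.Modules} (φ : M ⟶ N) : toAb M ⟶ toAb N :=
  (SheafOfModules.toSheaf X.ringCatSheaf).map φ

lemma abMap_comm_smul {M N : X.Modules} (φ : M ⟶ N) (r : Γtop X) :
    abMap φ ≫ smulAb N r = smulAb M r ≫ abMap φ := by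
  ext U m
  exact ((φ.val.app U).hom.map_smul (resTop X U r) m).symm

lemma abMap_id (M : X.Modules) : abMap (𝟙 M) = 𝟙 (toAb M) :=
  (Groth.CohBase.toAbF X).map_id M

lemma abMap_comp {M N P : X.Modules} (φ : M ⟶ N) (ψ : N ⟶ P) :
    abMap (φ ≫ ψ) = abMap φ ≫ abMap ψ :=
  (Groth.CohBase.toAbF X).map_comp φ ψ

lemma abMap_zero (M N : X.Modules) : abMap (0 : M ⟶ N) = 0 :=
  (Groth.CohBase.toAbF X).map_zero M N

variable (A : Type u) [CommRing A] [X.Over (Spec (CommRingCat.of A))]

lemma smul_def {M : X.Modules} {n : ℕ} (a : A) (x : HH X M n) :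
    a • x = Sheaf.H.map (smulAb M (toGlobal (X ↘ Spec (CommRingCat.of A)) a)) n x := rfl

/-- Functoriality of cohomology, linear over the base. -/
noncomputable def hMap {M N : X.Modules} (φ : M ⟶ N) (n : ℕ) : HH X M n →ₗ[A] HH X N n where
  toFun := Sheaf.H.map (abMap φ) n
  map_add' := map_add _
  map_smul' a x := by
    simp only [RingHom.id_apply, smul_def, ← Sheaf.H.map_comp_apply, abMap_comm_smul]

@[simp] lemma hMap_apply {M N : X.Modules} (φ : M ⟶ N) (n : ℕ) (x : HH X M n) :
    hMap A φ n x = Sheaf.H.map (abMap φ) n x := rfl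

@[simp] lemma hMap_id (M : X.Modules) (n : ℕ) : hMap A (𝟙 M) n = LinearMap.id := by
  ext x
  simp only [hMap_apply, LinearMap.id_apply, abMap_id, Sheaf.H.map_id_apply]

lemma hMap_comp {M N P : X.Modules} (φ : M ⟶ N) (ψ : N ⟶ P) (n : ℕ) :
    hMap A (φ ≫ ψ) n = (hMap A ψ n).comp (hMap A φ n) := by
  ext x
  simp only [hMap_apply, LinearMap.comp_apply, abMap_comp, Sheaf.H.map_comp_apply]

/-- Isomorphic modules have isomorphic cohomology. -/
noncomputable def hEquiv {M N : X.Modules} (e : M ≅ N) (n : ℕ) : HH X M n ≃ₗ[A] HH X N n :=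
  LinearEquiv.ofLinearMap (hMap A e.hom n) (hMap A e.inv n)
    (by rw [← hMap_comp, e.inv_hom_id, hMap_id]) (by rw [← hMap_comp, e.hom_inv_id, hMap_id])

lemma abMap_comp_eq_zero (S : ShortComplex X.Modules) : abMap S.f ≫ abMap S.g = 0 := by
  rw [← abMap_comp, S.zero, abMap_zero]

lemma abSeq_shortExact {S : ShortComplex X.Modules} (hS : S.ShortExact) :
    (ShortComplex.mk (abMap S.f) (abMap S.g) (abMap_comp_eq_zero S)).ShortExact :=
  Groth.CohBase.shortExact_toAb hS

variable {S : ShortComplex X.Modules} (hS : S.ShortExact)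

/-- The connecting map, linear over the base. -/
noncomputable def hDelta (n : ℕ) : HH X S.X₃ n →ₗ[A] HH X S.X₁ (n + 1) :=
  { conn (abSeq_shortExact hS) n with
    map_smul' := fun a x =>
      conn_natural (abSeq_shortExact hS) n
        (smulAb S.X₁ (toGlobal (X ↘ Spec (CommRingCat.of A)) a))
        (smulAb S.X₂ (toGlobal (X ↘ Spec (CommRingCat.of A)) a))
        (smulAb S.X₃ (toGlobal (X ↘ Spec (CommRingCat.of A)) a))
        (abMap_comm_smul S.f _).symm (abMap_comm_smul S.g _).symm x }

include hS in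
lemma exact_mid (n : ℕ) : Function.Exact (hMap A S.f n) (hMap A S.g n) :=
  hMap_exact_mid (abSeq_shortExact hS) n

lemma exact_right (n : ℕ) : Function.Exact (hMap A S.g n) (hDelta A hS n) :=
  hMap_exact_right (abSeq_shortExact hS) n

lemma exact_left (n : ℕ) : Function.Exact (hDelta A hS n) (hMap A S.f (n + 1)) :=
  hMap_exact_left (abSeq_shortExact hS) n

include hS in
lemma injective_zero : Function.Injective (hMap A S.f 0) :=
  hMap_injective_zero (abSeq_shortExact hS)

end Groth.EulerDeg
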