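import Groth.Agent.EulerDeg.ClosedSupport
import Groth.Agent.EulerDeg.HLinear
import Groth.Agent.SiteCohomology.Flasque
import Mathlib.AlgebraicGeometry.Noetherian

/-!
# Vanishing of cohomology above degree one on one-dimensional spaces

For a Noetherian sober space of dimension at most one, `H^n` of every abelian sheaf vanishes for
`n ≥ 2`; sheaves with zero stalks at the non-closed points have no higher cohomology at all.
-/

universe u

open CategoryTheory Limits TopologicalSpace Opposite AlgebraicGeometry

namespace Groth.EulerDeg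

variable {X : TopCat.{u}}

instance preservesFiniteLimits_stalkAb (x : X) : PreservesFiniteLimits (stalkAb x) :=
  inferInstanceAs (PreservesFiniteLimits (TopCat.Sheaf.forget AddCommGrpCat.{u} X ⋙
    TopCat.Presheaf.stalkFunctor AddCommGrpCat.{u} x))

instance preservesFiniteColimits_stalkAb (x : X) : PreservesFiniteColimits (stalkAb x) := by
  have : (TopCat.Sheaf.forget AddCommGrpCat.{u} X ⋙
      TopCat.Presheaf.stalkFunctor AddCommGrpCat.{u} x).IsLeftAdjoint := inferInstance
  exact inferInstanceAs (PreservesFiniteColimits (TopCat.Sheaf.forget AddCommGrpCat.{u} X ⋙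
    TopCat.Presheaf.stalkFunctor AddCommGrpCat.{u} x))

instance preservesZeroMorphisms_stalkAb (x : X) : (stalkAb x).PreservesZeroMorphisms :=
  Functor.preservesZeroMorphisms_of_preserves_terminal_object

/-- Sheaves with zero stalks away from the closed points have no higher cohomology. -/
theorem subsingleton_H_succ_of_closed_support [NoetherianSpace X] [QuasiSober X] (F : CohTop.Ab X)
    (hF : ∀ x : X, ¬ IsClosed ({x} : Set X) → IsZero ((stalkAb x).obj F)) (n : ℕ) :
    Subsingleton (CohTop.H F (n + 1)) :=
  have := isFlasque_of_closed_support F hF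
  Groth.SiteCohomology.subsingleton_H_succ_of_flasque F n

lemma subsingleton_H_mid {F G K : CohTop.Ab X} {f : F ⟶ G} {g : G ⟶ K} {w₀ : f ≫ g = 0}
    (h : (ShortComplex.mk f g w₀).ShortExact) (n : ℕ) [Subsingleton (CohTop.H F n)]
    [Subsingleton (CohTop.H K n)] : Subsingleton (CohTop.H G n) := by
  refine subsingleton_of_forall_eq 0 fun x => ?_
  obtain ⟨y, rfl⟩ := ((hMap_exact_mid h n) x).mp (Subsingleton.elim _ _)
  rw [Subsingleton.elim y 0, map_zero]

lemma subsingleton_H_left {F G K : CohTop.Ab X} {f : F ⟶ G} {g : G ⟶ K} {w₀ : f ≫ g = 0}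
    (h : (ShortComplex.mk f g w₀).ShortExact) (n : ℕ) [Subsingleton (CohTop.H K n)]
    [Subsingleton (CohTop.H G (n + 1))] : Subsingleton (CohTop.H F (n + 1)) := by
  refine subsingleton_of_forall_eq 0 fun x => ?_
  obtain ⟨y, rfl⟩ := ((hMap_exact_left h n) x).mp (Subsingleton.elim _ _)
  rw [Subsingleton.elim y 0, map_zero]

/-- In dimension at most one a non-closed point is maximal for specialization. -/
lemma eq_of_specializes_of_not_isClosed [T0Space X] [QuasiSober X]
    (hX : topologicalKrullDim X ≤ 1) {x y : X} (hx : ¬ IsClosed ({x} : Set X)) (h : y ⤳ x) :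
    y = x := by
  by_contra hne
  obtain ⟨z, hz, hzx⟩ : ∃ z, z ∈ closure ({x} : Set X) ∧ z ≠ x := by
    by_contra hcon
    push Not at hcon
    exact hx (closure_eq_iff_isClosed.mp (Set.Subset.antisymm (fun z hz => hcon z hz) subset_closure))
  let c : X → IrreducibleCloseds X := fun a =>
    ⟨closure {a}, isIrreducible_singleton.closure, isClosed_closure⟩
  have hlt : ∀ a b : X, b ⤳ a → a ≠ b → c a < c b := by
    intro a b hab hne'
    refine lt_of_le_of_ne (show closure ({a} : Set X) ⊆ closure {b} from
      closure_minimal (Set.singleton_subset_iff.mpr hab.mem_closure) isClosed_closure) fun e => hne' ?_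
    have e' : closure ({a} : Set X) = closure {b} := congrArg (fun W : IrreducibleCloseds X => (W : Set X)) e
    exact (isGenericPoint_closure (x := a)).eq (e' ▸ isGenericPoint_closure)
  have h1 := hlt z x (specializes_iff_mem_closure.mpr hz) hzx
  have h2 := hlt x y h (Ne.symm hne)
  have h3 : ((2 : ℕ) : WithBot ℕ∞) ≤ topologicalKrullDim X :=
    Order.LTSeries.length_le_krullDim
      ⟨2, ![c z, c x, c y], fun i => by fin_cases i <;> assumption⟩
  exact absurd (h3.trans hX) (by decide)

/-- In dimension at most one there are only finitely many non-closed points. -/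
lemma finite_not_isClosed [NoetherianSpace X] [T0Space X] [QuasiSober X]
    (hX : topologicalKrullDim X ≤ 1) : {x : X | ¬ IsClosed ({x} : Set X)}.Finite := by
  obtain ⟨S, hSf, hSc, hSi, hS⟩ :=
    NoetherianSpace.exists_finite_set_isClosed_irreducible (α := X) isClosed_univ
  have : ∀ t : S, ∃ η, IsGenericPoint η t.1 := fun t => QuasiSober.sober (hSi t t.2) (hSc t t.2)
  choose g hg using this
  have : Finite S := hSf.to_subtype
  refine (Set.finite_range g).subset fun x hx => ?_
  obtain ⟨t, ht, hxt⟩ := (hS ▸ Set.mem_univ x : x ∈ ⋃₀ S)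
  exact ⟨⟨t, ht⟩, eq_of_specializes_of_not_isClosed hX hx ((hg ⟨t, ht⟩).specializes hxt)⟩

/-- Grothendieck vanishing in dimension at most one. -/
theorem subsingleton_H_of_dim_le_one [NoetherianSpace X] [T0Space X] [QuasiSober X]
    (hX : topologicalKrullDim X ≤ 1) (F : CohTop.Ab X) (n : ℕ) :
    Subsingleton (CohTop.H F (n + 2)) := by
  classical
  suffices h : ∀ (T : Finset X), (∀ x ∈ T, ¬ IsClosed ({x} : Set X)) → ∀ (F : CohTop.Ab X),
      (∀ x : X, ¬ IsClosed ({x} : Set X) → x ∉ T → IsZero ((stalkAb x).obj F)) →
      Subsingleton (CohTop.H F (n + 2)) from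
    h (finite_not_isClosed hX).toFinset (fun x hx => by simpa using hx) F
      fun x hx hx' => absurd (by simpa using hx) hx'
  intro T
  induction T using Finset.induction_on with
  | empty => exact fun _ F hF =>
      subsingleton_H_succ_of_closed_support F (fun x hx => hF x hx (Finset.notMem_empty x)) (n + 1)
  | @insert η T hη ih =>
    intro hT F hF
    let G : CohTop.Ab X := (skyscraperSheafFunctor η).obj ((stalkAb η).obj F)
    let adj := stalkSkyscraperSheafAdjunction (C := AddCommGrpCat.{u}) η
    let u : F ⟶ G := adj.unit.app F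
    have hηc : ¬ IsClosed ({η} : Set X) := hT η (Finset.mem_insert_self η T)
    have huη : IsIso ((stalkAb η).map u) := by
      have := adj.left_triangle_components F
      have hco : ∀ A, IsIso (adj.counit.app A) := fun A => by
        change IsIso ((StalkSkyscraperPresheafAdjunctionAuxs.counit η).app _)
        rw [StalkSkyscraperPresheafAdjunctionAuxs.counit_app]
        exact Iso.isIso_hom _
      exact @IsIso.of_isIso_fac_right _ _ _ _ _ _ _ _ (hco _) (IsIso.id _) this
    have hG : TopCat.Sheaf.IsFlasque G := by
      have : Epi (terminalIsTerminal.from ((stalkAb η).obj F)) :=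
        ⟨fun {Z} a b _ => ((IsTerminal.isZero (terminalIsTerminal (C := AddCommGrpCat.{u}))).eq_of_src a b)⟩
      exact isFlasque_skyscraperSheaf_of_epi_from η ((stalkAb η).obj F)
    have hGx : ∀ x : X, ¬ IsClosed ({x} : Set X) → x ≠ η → IsZero ((stalkAb x).obj G) := by
      intro x hx hne
      have hns : ¬ η ⤳ x := fun h => hne (eq_of_specializes_of_not_isClosed hX hx h).symm
      exact (skyscraperPresheafStalkOfNotSpecializesIsTerminal η ((stalkAb η).obj F) hns).isZero
    have s1 : (ShortComplex.mk (kernel.ι (Abelian.factorThruImage u)) (Abelian.factorThruImage u)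
        (kernel.condition _)).ShortExact :=
      { exact := ShortComplex.exact_kernel _ }
    have s2 : (ShortComplex.mk (Abelian.image.ι u) (cokernel.π u) (kernel.condition _)).ShortExact :=
      { exact := ShortComplex.exact_kernel _ }
    have hK : ∀ x : X, ¬ IsClosed ({x} : Set X) → x ∉ T →
        IsZero ((stalkAb x).obj (kernel (Abelian.factorThruImage u))) := by
      intro x hx hxT
      have : Mono ((stalkAb x).map (kernel.ι (Abelian.factorThruImage u))) := inferInstance
      by_cases hxη : x = η
      · subst hxη
        have : Mono ((stalkAb x).map (Abelian.factorThruImage u)) := by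
          have hm : Mono ((stalkAb x).map (Abelian.factorThruImage u) ≫
              (stalkAb x).map (Abelian.image.ι u)) := by
            rw [← Functor.map_comp, Abelian.image.fac]; infer_instance
          exact mono_of_mono _ ((stalkAb x).map (Abelian.image.ι u))
        refine IsZero.of_mono_eq_zero ((stalkAb x).map (kernel.ι (Abelian.factorThruImage u))) ?_
        rw [← cancel_mono ((stalkAb x).map (Abelian.factorThruImage u)), ← Functor.map_comp,
          kernel.condition, Functor.map_zero, zero_comp]
      · exact IsZero.of_mono ((stalkAb x).map (kernel.ι (Abelian.factorThruImage u)))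
          (hF x hx (by simp [hxη, hxT]))
    have hQ : ∀ x : X, ¬ IsClosed ({x} : Set X) → IsZero ((stalkAb x).obj (cokernel u)) := by
      intro x hx
      have : Epi ((stalkAb x).map (cokernel.π u)) := inferInstance
      by_cases hxη : x = η
      · subst hxη
        refine IsZero.of_epi_eq_zero ((stalkAb x).map (cokernel.π u)) ?_
        rw [← cancel_epi ((stalkAb x).map u), ← Functor.map_comp, cokernel.condition,
          Functor.map_zero, comp_zero]
      · exact IsZero.of_epi ((stalkAb x).map (cokernel.π u)) (hGx x hx hxη)
    have := ih (fun x hx => hT x (Finset.mem_insert_of_mem hx)) _ hK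
    have : Subsingleton (CohTop.H (cokernel u) (n + 1)) :=
      subsingleton_H_succ_of_closed_support _ hQ n
    have : Subsingleton (CohTop.H G (n + 1 + 1)) :=
      Groth.SiteCohomology.subsingleton_H_succ_of_flasque G (n + 1)
    have : Subsingleton (CohTop.H (Abelian.image u) (n + 2)) := subsingleton_H_left s2 (n + 1)
    exact subsingleton_H_mid s1 (n + 2)

/-- On a Noetherian scheme of dimension at most one, `H^n` vanishes for `n ≥ 2`. -/
theorem subsingleton_HH_of_dim_le_one (X : Scheme.{u}) [NoetherianSpace X]
    (hX : topologicalKrullDim X ≤ 1) (M : X.Modules) (n : ℕ) (hn : 2 ≤ n) :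
    Subsingleton (Coh.HH X M n) := by
  obtain ⟨m, rfl⟩ : ∃ m, n = m + 2 := ⟨n - 2, by omega⟩
  have t0 : T0Space X := inferInstance
  have qs : QuasiSober X := inferInstance
  exact @subsingleton_H_of_dim_le_one X.toTopCat ‹_› t0 qs hX (Coh.toAb M) m

end Groth.EulerDeg
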