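import Groth.Agent.EulerDeg.Proper
import Groth.Agent.EulerDeg.DimOne
import Groth.Agent.CohFin.ProjFinite

/-!
# Euler characteristics of coherent modules on proper schemes over a field
-/

universe u

open CategoryTheory Limits AlgebraicGeometry Coh TopologicalSpace

namespace Groth.EulerDeg

variable (k : Type u) [Field k] (X : Scheme.{u}) [X.Over (Spec (CommRingCat.of k))]
  [IsProper (X ↘ Spec (CommRingCat.of k))]

/-- Finiteness of coherent cohomology on a proper scheme over a field. -/
lemma finite_HH {M : X.Modules} (hM : IsCoh M) (n : ℕ) : Module.Finite k (HH X M n) :=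
  Groth.CohFin.hFin_of_proper Groth.CohFin.projFinite n X (X ↘ Spec (CommRingCat.of k)) M hM

/-- Coherent modules on a proper scheme over a field are `FinCoh`. -/
theorem finCoh {M : X.Modules} (hM : IsCoh M) : FinCoh k M :=
  finCoh_of_isCoh k X (fun _ h n => finite_HH k X h n) hM

include k in
lemma isNoetherian_of_proper : IsNoetherian X :=
  have : IsLocallyNoetherian X := LocallyOfFiniteType.isLocallyNoetherian (X ↘ Spec (CommRingCat.of k))
  have : CompactSpace X := compactSpace_of_proper k X
  ⟨⟩

include k in
lemma noetherianSpace_of_proper : NoetherianSpace X :=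
  have := isNoetherian_of_proper k X
  inferInstance

/-- In dimension at most one only `H⁰` and `H¹` remain. -/
lemma euler_eq_h0_sub_h1 (hdim : topologicalKrullDim X ≤ 1) (M : X.Modules) :
    Curv2.euler k X M =
      (Module.finrank k (HH X M 0) : ℤ) - Module.finrank k (HH X M 1) :=
  have := noetherianSpace_of_proper k X
  euler_eq_sub fun n hn => subsingleton_HH_of_dim_le_one X hdim M n hn

/-- `χ(O) = h⁰(O) - g` in dimension at most one. -/
lemma euler_structure (hdim : topologicalKrullDim X ≤ 1) :
    Curv2.euler k X (structureModule X) =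
      (Module.finrank k (HH X (structureModule X) 0) : ℤ) - Curv2.genus k X :=
  euler_eq_h0_sub_h1 k X hdim _

/-- Riemann–Roch for rank one in dimension at most one. -/
lemma riemannRoch (hdim : topologicalKrullDim X ≤ 1) (L : X.Modules) :
    (Module.finrank k (HH X L 0) : ℤ) - Module.finrank k (HH X L 1) = Curv2.deg k X L 1 +
      (Module.finrank k (HH X (structureModule X) 0) : ℤ) - Curv2.genus k X := by
  rw [← euler_eq_h0_sub_h1 k X hdim L, euler_eq_deg_add k L 1, euler_structure k X hdim]
  ring

end Groth.EulerDeg
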