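import Groth.Agent.EulerDeg.Basic
import Groth.Agent.CohBase.MayerVietoris
import Groth.Agent.CohBase.GlobalSections
import Mathlib.AlgebraicGeometry.Morphisms.Proper

/-!
# Boundedness of cohomology of quasi-coherent modules

On a quasi-compact quasi-separated scheme over a field a quasi-coherent module with finite-dimensional
cohomology is `FinCoh`.
-/

universe u

open CategoryTheory Limits AlgebraicGeometry Coh

namespace Groth.EulerDeg

/-- Cohomology of quasi-coherent modules vanishes in uniformly high degree on a qcqs scheme. -/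
theorem exists_subsingleton_of_qcqs (X : Scheme.{u}) [CompactSpace X] [QuasiSeparatedSpace X] :
    ∃ d : ℕ, ∀ (M : X.Modules), IsQCoh M → ∀ n, d ≤ n → Subsingleton (HH X M n) := by
  obtain ⟨d, hd⟩ := Groth.CohBase.exists_hVanish_of_isCompact (X := X) ⊤ isCompact_univ
  exact ⟨d, fun M hM n hn =>
    (Groth.CohBase.subsingleton_H_iff (X := X.toTopCat) (Groth.CohBase.abSheaf M) n).mpr
      (hd M hM n hn)⟩

variable (k : Type u) [Field k] (X : Scheme.{u}) [X.Over (Spec (CommRingCat.of k))]

lemma compactSpace_of_proper [IsProper (X ↘ Spec (CommRingCat.of k))] : CompactSpace X :=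
  QuasiCompact.compactSpace_of_compactSpace (X ↘ Spec (CommRingCat.of k))

lemma quasiSeparatedSpace_of_proper [IsProper (X ↘ Spec (CommRingCat.of k))] :
    QuasiSeparatedSpace X :=
  quasiSeparatedSpace_of_quasiSeparated (X ↘ Spec (CommRingCat.of k))

/-- Finite-dimensional cohomology gives `FinCoh` on a proper scheme over a field. -/
theorem finCoh_of_finite [IsProper (X ↘ Spec (CommRingCat.of k))] {M : X.Modules} (hM : IsQCoh M)
    (h : ∀ n, Module.Finite k (HH X M n)) : FinCoh k M := by
  have := compactSpace_of_proper k X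
  have := quasiSeparatedSpace_of_proper k X
  obtain ⟨d, hd⟩ := exists_subsingleton_of_qcqs X
  exact ⟨h, d, hd M hM⟩

/-- The finiteness theorem over a field gives `FinCoh` for coherent modules. -/
theorem finCoh_of_isCoh [IsProper (X ↘ Spec (CommRingCat.of k))]
    (hfin : ∀ (M : X.Modules), IsCoh M → ∀ n, Module.Finite k (HH X M n)) {M : X.Modules}
    (hM : IsCoh M) : FinCoh k M :=
  finCoh_of_finite k X hM.1 (hfin M hM)

end Groth.EulerDeg
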