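import Mathlib.LinearAlgebra.FiniteDimensional.Lemmas
import Mathlib.LinearAlgebra.Dimension.Finrank
import Mathlib.Algebra.BigOperators.Ring.Finset
import Mathlib.RingTheory.Noetherian.Basic
import Mathlib.Tactic

/-!
# Dimensions in long exact sequences of vector spaces
-/

set_option linter.style.haveILetI false

universe u

namespace Groth.EulerDeg

variable {k : Type u} [Field k] {A B C : Type u} [AddCommGroup A] [AddCommGroup B] [AddCommGroup C]
  [Module k A] [Module k B] [Module k C]

lemma finite_of_exact [Module.Finite k A] [Module.Finite k C] {f : A →ₗ[k] B} {g : B →ₗ[k] C}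
    (h : Function.Exact f g) : Module.Finite k B := by
  haveI : IsNoetherian k A := IsNoetherian.iff_fg.mpr inferInstance
  haveI : IsNoetherian k C := IsNoetherian.iff_fg.mpr inferInstance
  haveI := isNoetherian_of_range_eq_ker f g (LinearMap.exact_iff.mp h).symm
  exact inferInstance

lemma finrank_eq_range_add [Module.Finite k B] {f : A →ₗ[k] B} {g : B →ₗ[k] C}
    (h : Function.Exact f g) :
    Module.finrank k B = Module.finrank k (LinearMap.range f) +
      Module.finrank k (LinearMap.range g) := by
  rw [← g.finrank_range_add_finrank_ker, LinearMap.exact_iff.mp h, add_comm]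

lemma subsingleton_of_exact [Subsingleton A] [Subsingleton C] {f : A →ₗ[k] B} {g : B →ₗ[k] C}
    (h : Function.Exact f g) : Subsingleton B := by
  refine subsingleton_of_forall_eq 0 fun b => ?_
  obtain ⟨a, rfl⟩ := (h b).mp (Subsingleton.elim _ _)
  rw [Subsingleton.elim a 0, map_zero]

/-- The alternating sum of the dimensions in a bounded long exact sequence. -/
lemma les_alt_sum {A B C : ℕ → Type u} [∀ n, AddCommGroup (A n)] [∀ n, AddCommGroup (B n)]
    [∀ n, AddCommGroup (C n)] [∀ n, Module k (A n)] [∀ n, Module k (B n)] [∀ n, Module k (C n)]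
    [∀ n, Module.Finite k (A n)] [∀ n, Module.Finite k (B n)] [∀ n, Module.Finite k (C n)]
    (f : ∀ n, A n →ₗ[k] B n) (g : ∀ n, B n →ₗ[k] C n) (d : ∀ n, C n →ₗ[k] A (n + 1))
    (hf : Function.Injective (f 0)) (h₂ : ∀ n, Function.Exact (f n) (g n))
    (h₃ : ∀ n, Function.Exact (g n) (d n)) (h₁ : ∀ n, Function.Exact (d n) (f (n + 1)))
    (m : ℕ) [Subsingleton (A (m + 1))] :
    ∑ i ∈ Finset.range (m + 1), (-1 : ℤ) ^ i * (Module.finrank k (B i) : ℤ) =
      (∑ i ∈ Finset.range (m + 1), (-1 : ℤ) ^ i * (Module.finrank k (A i) : ℤ)) +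
        ∑ i ∈ Finset.range (m + 1), (-1 : ℤ) ^ i * (Module.finrank k (C i) : ℤ) := by
  suffices h : ∀ j, (∑ i ∈ Finset.range (j + 1), (-1 : ℤ) ^ i *
      ((Module.finrank k (A i) : ℤ) - Module.finrank k (B i) + Module.finrank k (C i))) =
      (-1 : ℤ) ^ j * Module.finrank k (LinearMap.range (d j)) by
    have h0 : Module.finrank k (LinearMap.range (d m)) = 0 := Module.finrank_zero_of_subsingleton
    have := h m
    rw [h0, Nat.cast_zero, mul_zero] at this
    simp only [mul_add, mul_sub, Finset.sum_add_distrib, Finset.sum_sub_distrib] at this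
    omega
  intro j
  induction j with
  | zero =>
    have e₁ := LinearMap.finrank_range_of_inj hf
    have e₂ := finrank_eq_range_add (h₂ 0)
    have e₃ := finrank_eq_range_add (h₃ 0)
    simp only [zero_add, Finset.range_one, Finset.sum_singleton, pow_zero, one_mul]
    omega
  | succ j ih =>
    rw [Finset.sum_range_succ, ih, finrank_eq_range_add (h₁ j),
      finrank_eq_range_add (h₂ (j + 1)), finrank_eq_range_add (h₃ (j + 1)), pow_succ]
    push_cast
    ring

end Groth.EulerDeg
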