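import Groth.Prelude.Def_CurvBase
import Groth.Agent.EulerDeg.HLinear
import Groth.Agent.EulerDeg.Linear

/-!
# The Euler characteristic and degree

`FinCoh k M` says that all `H^n(X, M)` are finite-dimensional and almost all vanish.  Under this
hypothesis `Curv2.euler` is additive in short exact sequences.
-/

universe u

open CategoryTheory Limits AlgebraicGeometry Coh

set_option linter.style.haveILetI false

namespace Groth.EulerDeg

variable (k : Type u) [Field k] {X : Scheme.{u}} [X.Over (Spec (CommRingCat.of k))]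

/-- All cohomology groups are finite-dimensional and almost all vanish. -/
structure FinCoh (M : X.Modules) : Prop where
  finite : ∀ n, Module.Finite k (HH X M n)
  bounded : ∃ N, ∀ n, N ≤ n → Subsingleton (HH X M n)

variable {k}

lemma finrank_congr {M N : X.Modules} (e : M ≅ N) (n : ℕ) :
    Module.finrank k (HH X M n) = Module.finrank k (HH X N n) :=
  (hEquiv k e n).finrank_eq

variable (k) in
lemma euler_congr {M N : X.Modules} (e : M ≅ N) :
    Curv2.euler k X M = Curv2.euler k X N :=
  finsum_congr fun n => by rw [finrank_congr (k := k) e n]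

variable (k) in
lemma deg_congr {M N : X.Modules} (e : M ≅ N) (r : ℕ) :
    Curv2.deg k X M r = Curv2.deg k X N r := by
  unfold Curv2.deg
  rw [euler_congr k e]

lemma FinCoh.of_iso {M N : X.Modules} (h : FinCoh k M) (e : M ≅ N) : FinCoh k N where
  finite n := by
    haveI := h.finite n
    exact Module.Finite.equiv (hEquiv k e n)
  bounded := by
    obtain ⟨b, hb⟩ := h.bounded
    exact ⟨b, fun n hn => by haveI := hb n hn; exact (hEquiv k e n).symm.toEquiv.subsingleton⟩

lemma finrank_eq_zero_of_subsingleton {M : X.Modules} {n : ℕ} (h : Subsingleton (HH X M n)) :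
    Module.finrank k (HH X M n) = 0 :=
  Module.finrank_zero_of_subsingleton

/-- The Euler characteristic as a finite sum. -/
lemma euler_eq_sum {M : X.Modules} {N : ℕ} (h : ∀ n, N ≤ n → Subsingleton (HH X M n)) :
    Curv2.euler k X M =
      ∑ i ∈ Finset.range N, (-1 : ℤ) ^ i * (Module.finrank k (HH X M i) : ℤ) := by
  unfold Curv2.euler
  apply finsum_eq_sum_of_support_subset
  intro i hi
  simp only [Finset.coe_range, Set.mem_Iio]
  by_contra hlt
  exact hi (by simp [finrank_eq_zero_of_subsingleton (k := k) (h i (not_lt.mp hlt))])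

lemma euler_of_isZero {M : X.Modules} (h : ∀ n, Subsingleton (HH X M n)) :
    Curv2.euler k X M = 0 := by
  rw [euler_eq_sum (N := 0) fun n _ => h n, Finset.sum_range_zero]

/-- `χ = h⁰ - h¹` when the higher groups vanish. -/
lemma euler_eq_sub {M : X.Modules} (h : ∀ n, 2 ≤ n → Subsingleton (HH X M n)) :
    Curv2.euler k X M =
      (Module.finrank k (HH X M 0) : ℤ) - Module.finrank k (HH X M 1) := by
  rw [euler_eq_sum h]
  simp [Finset.sum_range_succ, sub_eq_add_neg]

/-- `χ(O) = h⁰(O) - g`. -/
lemma euler_structure_eq (h : ∀ n, 2 ≤ n → Subsingleton (HH X (structureModule X) n)) :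
    Curv2.euler k X (structureModule X) =
      (Module.finrank k (HH X (structureModule X) 0) : ℤ) - Curv2.genus k X :=
  euler_eq_sub h

variable (k) in
@[simp] lemma deg_structure : Curv2.deg k X (structureModule X) 1 = 0 := by
  simp [Curv2.deg]

variable (k) in
lemma euler_eq_deg_add (M : X.Modules) (r : ℕ) :
    Curv2.euler k X M = Curv2.deg k X M r + r * Curv2.euler k X (structureModule X) := by
  simp [Curv2.deg]

/-- Riemann–Roch in rank one, in the form built into the definition of the degree. -/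
lemma euler_eq_deg_add_sub (L : X.Modules)
    (h : ∀ n, 2 ≤ n → Subsingleton (HH X (structureModule X) n)) :
    Curv2.euler k X L = Curv2.deg k X L 1 +
      (Module.finrank k (HH X (structureModule X) 0) : ℤ) - Curv2.genus k X := by
  rw [euler_eq_deg_add k L 1, euler_structure_eq h]
  ring

/-! ## Short exact sequences -/

variable {S : ShortComplex X.Modules} (hS : S.ShortExact)

include hS in
lemma FinCoh.mid (h₁ : FinCoh k S.X₁) (h₃ : FinCoh k S.X₃) : FinCoh k S.X₂ where
  finite n :=
    @finite_of_exact _ _ _ _ _ _ _ _ _ _ _ (h₁.finite n) (h₃.finite n) _ _ (exact_mid k hS n)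
  bounded := by
    obtain ⟨a, ha⟩ := h₁.bounded
    obtain ⟨c, hc⟩ := h₃.bounded
    exact ⟨max a c, fun n hn => @subsingleton_of_exact _ _ _ _ _ _ _ _ _ _ _
      (ha n (le_of_max_le_left hn)) (hc n (le_of_max_le_right hn)) _ _ (exact_mid k hS n)⟩

include hS in
lemma FinCoh.left (h₂ : FinCoh k S.X₂) (h₃ : FinCoh k S.X₃) : FinCoh k S.X₁ where
  finite n := by
    cases n with
    | zero =>
      haveI := h₂.finite 0
      exact Module.Finite.of_injective (hMap k S.f 0) (injective_zero k hS)
    | succ n =>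
      exact @finite_of_exact _ _ _ _ _ _ _ _ _ _ _ (h₃.finite n) (h₂.finite (n + 1)) _ _
        (exact_left k hS n)
  bounded := by
    obtain ⟨b, hb⟩ := h₂.bounded
    obtain ⟨c, hc⟩ := h₃.bounded
    refine ⟨max b c + 1, fun n hn => ?_⟩
    obtain ⟨m, rfl⟩ : ∃ m, n = m + 1 := ⟨n - 1, by omega⟩
    exact @subsingleton_of_exact _ _ _ _ _ _ _ _ _ _ _ (hc m (by omega)) (hb (m + 1) (by omega))
      _ _ (exact_left k hS m)

include hS in
lemma FinCoh.right (h₁ : FinCoh k S.X₁) (h₂ : FinCoh k S.X₂) : FinCoh k S.X₃ where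
  finite n :=
    @finite_of_exact _ _ _ _ _ _ _ _ _ _ _ (h₂.finite n) (h₁.finite (n + 1)) _ _
      (exact_right k hS n)
  bounded := by
    obtain ⟨a, ha⟩ := h₁.bounded
    obtain ⟨b, hb⟩ := h₂.bounded
    exact ⟨max a b, fun n hn => @subsingleton_of_exact _ _ _ _ _ _ _ _ _ _ _
      (hb n (le_of_max_le_right hn)) (ha (n + 1) (by omega)) _ _ (exact_right k hS n)⟩

include hS in
/-- The Euler characteristic is additive in short exact sequences. -/
theorem euler_add (h₁ : FinCoh k S.X₁) (h₃ : FinCoh k S.X₃) :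
    Curv2.euler k X S.X₂ = Curv2.euler k X S.X₁ + Curv2.euler k X S.X₃ := by
  have h₂ := FinCoh.mid hS h₁ h₃
  obtain ⟨a, ha⟩ := h₁.bounded
  obtain ⟨b, hb⟩ := h₂.bounded
  obtain ⟨c, hc⟩ := h₃.bounded
  rw [euler_eq_sum (k := k) (M := S.X₁) (N := max a (max b c) + 1) fun n hn => ha n (by omega),
    euler_eq_sum (k := k) (M := S.X₂) (N := max a (max b c) + 1) fun n hn => hb n (by omega),
    euler_eq_sum (k := k) (M := S.X₃) (N := max a (max b c) + 1) fun n hn => hc n (by omega)]
  exact @les_alt_sum k _ (HH X S.X₁) (HH X S.X₂) (HH X S.X₃) _ _ _ _ _ _ h₁.finite h₂.finite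
    h₃.finite (hMap k S.f) (hMap k S.g) (hDelta k hS) (injective_zero k hS) (exact_mid k hS)
    (exact_right k hS) (exact_left k hS) _ (ha _ (by omega))

include hS in
/-- The degree is additive in short exact sequences. -/
theorem deg_add (h₁ : FinCoh k S.X₁) (h₃ : FinCoh k S.X₃) (r₁ r₃ : ℕ) :
    Curv2.deg k X S.X₂ (r₁ + r₃) = Curv2.deg k X S.X₁ r₁ + Curv2.deg k X S.X₃ r₃ := by
  unfold Curv2.deg
  rw [euler_add hS h₁ h₃]
  push_cast
  ring

end Groth.EulerDeg
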