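import Groth.Agent.EulerDeg.Supported
import Groth.Agent.LocFree.Tensor
import Groth.Agent.QCohMod.SupportPullback
import Groth.Agent.CohC3.LimitSys
import Mathlib.LinearAlgebra.TensorProduct.Pi
import Mathlib.LinearAlgebra.Dimension.Constructions

/-!
# Euler characteristics of coherent modules with finite support
-/

universe u

open CategoryTheory Limits AlgebraicGeometry Coh TopologicalSpace Opposite TensorProduct

namespace Groth.EulerDeg

open Groth.PicAux

variable (k : Type u) [Field k] {X : Scheme.{u}} [X.Over (Spec (CommRingCat.of k))]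

/-- The map from `k` to functions on an open. -/
noncomputable def toSec (U : X.Opens) : k →+* Γ(X, U) :=
  (resX X (le_top : U ≤ ⊤)).comp (toGlobal (X ↘ Spec (CommRingCat.of k)))

/-- Sections over an open as a vector space. -/
noncomputable abbrev secModule (M : X.Modules) (U : X.Opens) : Module k Γ(M, U) :=
  Module.compHom Γ(M, U) (toSec k U)

attribute [local instance] secModule

lemma smul_sec {M : X.Modules} {U : X.Opens} (a : k) (m : Γ(M, U)) : a • m = toSec k U a • m := rfl

lemma toSec_res {U V : X.Opens} (h : V ≤ U) (a : k) : resX X h (toSec k U a) = toSec k V a :=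
  resX_resX (X := X) (le_top : U ≤ ⊤) h _

/-- Restriction, linear over the base field. -/
noncomputable def resLin (M : X.Modules) {U V : X.Opens} (h : V ≤ U) : Γ(M, U) →ₗ[k] Γ(M, V) where
  toFun := res M h
  map_add' := res_add h
  map_smul' a m := by
    rw [RingHom.id_apply, smul_sec, smul_sec, res_smul, toSec_res]

/-- `H⁰` is the space of global sections. -/
noncomputable def h0Equiv (M : X.Modules) : HH X M 0 ≃ₗ[k] Γ(M, (⊤ : X.Opens)) :=
  { Sheaf.H.equiv₀ (toAb M) (isTerminalTop : IsTerminal (⊤ : Opens X)) with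
    map_smul' := fun a x => by
      rw [EulerDeg.smul_def]
      exact (Sheaf.H.equiv₀_naturality (hT := (isTerminalTop : IsTerminal (⊤ : Opens X)))
        (f := smulAb M (toGlobal (X ↘ Spec (CommRingCat.of k)) a)) x).symm }

variable {k}

lemma finite_support_and_isClosed [NoetherianSpace X] {M : X.Modules} (h : SupportedAtClosed M)
    (hM : IsCoh M) [IsLocallyNoetherian X] : (CohB1.support M).Finite :=
  (@finite_and_isClosed_of_closed_points X.toTopCat ‹_› (inferInstanceAs (QuasiSober X))
    Set.univ (CohB1.support M) isOpen_univ (Set.subset_univ _)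
    (by rw [Set.inter_univ, (Groth.CohC3.isClosed_support_of_isCoh M hM).closure_eq]) h).1

lemma section_eq_zero {M : X.Modules} {U : X.Opens} (s : Γ(M, U))
    (h : ∀ (x : X) (hx : x ∈ U), x ∈ CohB1.support M → M.presheaf.germ U x hx s = 0) : s = 0 := by
  refine TopCat.Presheaf.section_ext (X := X.toTopCat) (toAb M) U s 0 fun x hx => ?_
  rw [map_zero]
  by_cases hs : x ∈ CohB1.support M
  · exact h x hx hs
  · have : Subsingleton (M.presheaf.stalk x) := not_not.mp hs
    exact Subsingleton.elim (α := M.presheaf.stalk x) _ _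

/-- Global sections of a module with finite support are the product of the sections near the
points of the support. -/
theorem bijective_pi_res {M : X.Modules} {T : Finset X} (hT : CohB1.support M ⊆ T)
    (hTc : ∀ x ∈ T, IsClosed ({x} : Set X)) (U : T → X.Opens) (hxU : ∀ x : T, x.1 ∈ U x)
    (hU : ∀ x y : T, y.1 ∈ U x → y = x) :
    Function.Bijective fun (s : Γ(M, (⊤ : X.Opens))) (x : T) => res M (le_top : U x ≤ ⊤) s := by
  constructor
  · intro a b hab
    rw [← sub_eq_zero]
    refine section_eq_zero _ fun x hx hxs => ?_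
    let t : T := ⟨x, hT hxs⟩
    have h1 : res M (le_top : U t ≤ ⊤) (a - b) = 0 := by
      change M.presheaf.map _ (a - b) = 0
      rw [map_sub, sub_eq_zero]
      exact congrFun hab t
    rw [← TopCat.Presheaf.germ_res_apply M.presheaf (homOfLE (le_top : U t ≤ ⊤)) x (hxU t)]
    exact (congrArg _ h1).trans (map_zero _)
  · intro f
    have hc : IsClosed (T : Set X) := by
      rw [← Set.biUnion_of_singleton (T : Set X)]
      exact T.finite_toSet.isClosed_biUnion hTc
    let W : X.Opens := ⟨(T : Set X)ᶜ, hc.isOpen_compl⟩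
    let O : Option T → X.Opens := fun o => o.elim W U
    let sf : ∀ o, Γ(M, O o) := fun o => match o with
      | none => 0
      | some x => f x
    obtain ⟨s, hs, -⟩ := res_glue (M := M) O (fun _ => le_top) (fun x _ => by
      by_cases hx : x ∈ T
      · exact Opens.mem_iSup.2 ⟨some ⟨x, hx⟩, hxU ⟨x, hx⟩⟩
      · exact Opens.mem_iSup.2 ⟨none, hx⟩) sf (fun i j => by
      by_cases hij : i = j
      · subst hij; rfl
      rw [← sub_eq_zero]
      refine section_eq_zero _ fun x hx hxs => ?_
      exfalso
      match i, j with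
      | none, _ => exact hx.1 (hT hxs)
      | _, none => exact hx.2 (hT hxs)
      | some a, some b =>
        exact hij (congrArg some ((hU a ⟨x, hT hxs⟩ hx.1).symm.trans (hU b ⟨x, hT hxs⟩ hx.2))))
    exact ⟨s, funext fun x => hs (some x)⟩

variable (k) in
/-- `h⁰` of a module with finite support. -/
theorem finrank_h0_eq_sum [NoetherianSpace X] {M : X.Modules} {T : Finset X}
    (hT : CohB1.support M ⊆ T) (hTc : ∀ x ∈ T, IsClosed ({x} : Set X)) (U : T → X.Opens)
    (hxU : ∀ x : T, x.1 ∈ U x) (hU : ∀ x y : T, y.1 ∈ U x → y = x)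
    [Module.Finite k (HH X M 0)] :
    Module.finrank k (HH X M 0) = ∑ x : T, Module.finrank k Γ(M, U x) := by
  have := Module.Finite.equiv (h0Equiv k M)
  have hfin : ∀ x, Module.Finite k Γ(M, U x) := fun x =>
    Module.Finite.of_surjective (resLin k M (le_top : U x ≤ ⊤))
      ((Groth.SiteCohomology.isFlasque_iff_surjective (X := X.toTopCat) (toAb M)).mp
        (isFlasque_of_supportedAtClosed (M := M) fun x hx => hTc x (hT hx))
        (homOfLE (le_top : U x ≤ ⊤)))
  rw [(h0Equiv k M).finrank_eq,
    (LinearEquiv.ofBijective (LinearMap.pi fun x => resLin k M (le_top : U x ≤ ⊤))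
      (bijective_pi_res hT hTc U hxU hU)).finrank_eq, Module.finrank_pi_fintype]

variable (k) in
/-- Sections of a tensor product with a module free over an affine open. -/
theorem finrank_sections_tensor {F E : X.Modules} [F.IsQuasicoherent] [E.IsQuasicoherent]
    {U : X.Opens} (hU : IsAffineOpen U) {n : ℕ} {s : Fin n → Γ(E, U)} (hs : Basis' E U s)
    [Module.Finite k Γ(F, U)] :
    Module.finrank k Γ(CohB1.tensorMod F E, U) = n * Module.finrank k Γ(F, U) := by
  let b : (Fin n → Γ(X, U)) ≃ₗ[Γ(X, U)] Γ(E, U) :=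
    LinearEquiv.ofBijective (Fintype.linearCombination Γ(X, U) s) (by
      have h1 : (fun r : Fin n → Γ(X, U) => ∑ i, r i • res E le_rfl (s i)) =
          ⇑(Fintype.linearCombination Γ(X, U) s) := funext fun r => by
        simp [Fintype.linearCombination_apply]
      exact h1 ▸ hs U le_rfl)
  let e : Γ(CohB1.tensorMod F E, U) ≃ₗ[Γ(X, U)] (Fin n → Γ(F, U)) :=
    (Groth.LocFree.tensorSecEquiv hU).symm ≪≫ₗ TensorProduct.congr (LinearEquiv.refl _ _) b.symm
      ≪≫ₗ TensorProduct.piScalarRight Γ(X, U) Γ(X, U) Γ(F, U) (Fin n)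
  let e' : Γ(CohB1.tensorMod F E, U) ≃ₗ[k] (Fin n → Γ(F, U)) :=
    { e with map_smul' := fun a x => e.map_smul (toSec k U a) x }
  rw [e'.finrank_eq, Module.finrank_pi_fintype]
  simp

variable (k) [IsProper (X ↘ Spec (CommRingCat.of k))]

/-- Tensoring with a locally free module of rank `n` multiplies the Euler characteristic of a
coherent module supported at closed points by `n`. -/
theorem euler_tensor_of_supportedAtClosed {F E : X.Modules} (hF : IsCoh F)
    (h : SupportedAtClosed F) {n : ℕ} (hE : FlatMod.IsFinLocFreeOfRank n E) :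
    Curv2.euler k X (CohB1.tensorMod F E) = n * Curv2.euler k X F := by
  have := isNoetherian_of_proper k X
  classical
  have := hF.1
  have hEc : IsCoh E := KTheory.LocFree.isCoh (LocFree.isFinLocFree_of_rank hE)
  have := hEc.1
  have hFE : IsCoh (CohB1.tensorMod F E) :=
    ⟨Groth.QCohMod.isQCoh_tensorMod (M := F) (N := E), Groth.QCohMod.isFT_tensorMod hF.2 hEc.2⟩
  have hsub : CohB1.support (CohB1.tensorMod F E) ⊆ CohB1.support F := by
    rw [Groth.QCohMod.support_tensorMod F E hF.2 hEc.2]
    exact Set.inter_subset_left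
  have h' : SupportedAtClosed (CohB1.tensorMod F E) := fun x hx => h x (hsub hx)
  rw [euler_eq_h0 k h, euler_eq_h0 k h']
  obtain ⟨T, hT⟩ := (finite_support_and_isClosed h hF).exists_finset_coe
  have hTc : ∀ x ∈ T, IsClosed ({x} : Set X) := fun x hx => h x (hT ▸ hx)
  have hch : ∀ x : T, ∃ (U : X.Opens) (s : Fin n → Γ(E, U)), IsAffineOpen U ∧ x.1 ∈ U ∧
      (∀ y : T, y.1 ∈ U → y = x) ∧ Basis' E U s := by
    intro x
    obtain ⟨V, s, hxV, hs⟩ := Groth.LocFree.isFinLocFreeOfRank_iff.1 hE x.1
    have hcl : IsClosed ((T : Set X) \ {x.1}) := by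
      rw [← Set.biUnion_of_singleton ((T : Set X) \ {x.1})]
      exact (T.finite_toSet.subset Set.sdiff_subset).isClosed_biUnion fun y hy => hTc y hy.1
    obtain ⟨_, ⟨U, hU, rfl⟩, hxU, hUV⟩ := X.isBasis_affineOpens.exists_subset_of_mem_open
      (show x.1 ∈ (V : Set X) ∩ ((T : Set X) \ {x.1})ᶜ from ⟨hxV, fun hh => hh.2 rfl⟩)
      (V.isOpen.inter hcl.isOpen_compl)
    exact ⟨U, fun i => res E (fun y hy => (hUV hy).1) (s i), hU, hxU,
      fun y hy => Subtype.ext (not_not.mp fun hne => (hUV hy).2 ⟨y.2, hne⟩),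
      hs.res' (fun y hy => (hUV hy).1)⟩
  choose U s hUa hxU hUs hs using hch
  have := finite_HH k X hF 0
  have := finite_HH k X hFE 0
  rw [finrank_h0_eq_sum k (M := F) hT.ge hTc U hxU hUs,
    finrank_h0_eq_sum k (M := CohB1.tensorMod F E) (hsub.trans hT.ge) hTc U hxU hUs]
  push_cast
  rw [Finset.mul_sum]
  refine Finset.sum_congr rfl fun x _ => ?_
  have : Module.Finite k Γ(F, U x) := by
    have := Module.Finite.equiv (h0Equiv k F)
    exact Module.Finite.of_surjective (resLin k F (le_top : U x ≤ ⊤))
      ((Groth.SiteCohomology.isFlasque_iff_surjective (X := X.toTopCat) (toAb F)).mp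
        (isFlasque_of_supportedAtClosed h) (homOfLE (le_top : U x ≤ ⊤)))
  exact_mod_cast finrank_sections_tensor k (hUa x) (hs x)

end Groth.EulerDeg
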