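import Groth.Agent.EulerDeg.Tensor
import Groth.Agent.PicAux.EffCartierLine
import Groth.Agent.Divisors.EffCartier

/-!
# The degree of an effective Cartier divisor
-/

universe u

open CategoryTheory Limits AlgebraicGeometry Coh TopologicalSpace Opposite

namespace Groth.EulerDeg

variable {X : Scheme.{u}}

lemma support_quotMod_subset (I : X.IdealSheafData) :
    CohB1.support (ClSub.quotMod I) ⊆ (I.support : Set X) := by
  intro x hx
  by_contra hns
  refine hx ⟨fun a b => ?_⟩
  suffices h : ∀ t : (ClSub.quotMod I).presheaf.stalk x, t = 0 by rw [h a, h b]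
  intro t
  obtain ⟨V, hxV, s, rfl⟩ := TopCat.Presheaf.exists_germ_eq (ClSub.quotMod I).presheaf t
  let W : X.Opens := V ⊓ ⟨(I.support : Set X)ᶜ, I.support.isClosed.isOpen_compl⟩
  have hpre : I.subschemeι ⁻¹ᵁ W = ⊥ := by
    refine Opens.ext (Set.eq_empty_iff_forall_notMem.mpr fun z hz => hz.2 ?_)
    rw [← I.range_subschemeι]
    exact ⟨z, rfl⟩
  have : Subsingleton Γ(I.subscheme, I.subschemeι ⁻¹ᵁ W) := by rw [hpre]; infer_instance
  rw [← TopCat.Presheaf.germ_res_apply (ClSub.quotMod I).presheaf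
    (homOfLE (inf_le_left : W ≤ V)) x ⟨hxV, hns⟩ s]
  refine (congrArg _ (Subsingleton.elim (α := Γ(I.subscheme, I.subschemeι ⁻¹ᵁ W)) _ 0)).trans ?_
  exact map_zero _

lemma supportedAtClosed_quotMod [NoetherianSpace X] (hdim : topologicalKrullDim X ≤ 1)
    {D : X.IdealSheafData} (hD : BlowUp.IsEffCartierIdeal D) :
    SupportedAtClosed (ClSub.quotMod D) := by
  intro x hx
  by_contra hc
  exact Groth.Divisors.not_mem_support_of_maximal hD
    (fun y hy => @eq_of_specializes_of_not_isClosed X.toTopCat (inferInstanceAs (T0Space X))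
      (inferInstanceAs (QuasiSober X)) hdim x y hc hy) (support_quotMod_subset D hx)

lemma isCoh_quotMod [IsLocallyNoetherian X] (I : X.IdealSheafData) : IsCoh (ClSub.quotMod I) := by
  have hS := Groth.PicAux.shortExact_idealMod I
  have hO : IsCoh (structureModule X) := isCoh_of_isInvertible (isInvertible_structureModule X)
  have : Epi (ClSub.toSubscheme I) := hS.epi_g
  have hq : (ClSub.quotMod I).IsQuasicoherent := inferInstance
  exact ⟨hq, Groth.QCohMod.isFT_of_epi (ClSub.toSubscheme I) hO.2⟩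

variable (k : Type u) [Field k] [X.Over (Spec (CommRingCat.of k))]
  [IsProper (X ↘ Spec (CommRingCat.of k))]

/-- `deg O(D) = h⁰(O_D)`. -/
theorem deg_inverse_idealMod (hdim : topologicalKrullDim X ≤ 1) {D : X.IdealSheafData}
    (hD : BlowUp.IsEffCartierIdeal D) {L : X.Modules} (hL : PicF.IsInvertible L)
    (hLD : ClSub.IsInverseOf L (ClSub.idealMod D)) :
    Curv2.deg k X L 1 = (Module.finrank k (HH X (ClSub.quotMod D) 0) : ℤ) := by
  have := isNoetherian_of_proper k X
  have hS := Groth.PicAux.shortExact_idealMod_twist D hL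
  have hQ := supportedAtClosed_quotMod hdim hD
  have hQc := isCoh_quotMod D
  have hO : IsCoh (structureModule X) := isCoh_of_isInvertible (isInvertible_structureModule X)
  have hLc := isCoh_of_isInvertible hL
  obtain ⟨e₁⟩ := hLD
  obtain ⟨b₁, -⟩ := Groth.PicAux.exists_braiding (ClSub.idealMod D) L
  obtain ⟨e₂, -⟩ := Groth.PicAux.exists_leftUnitor L
  have hI : IsCoh (CohB1.tensorMod (ClSub.idealMod D) L) :=
    Groth.QCohMod.isCoh_of_iso (b₁ ≪≫ e₁).symm hO
  have e := euler_add hS (finCoh k X hI) (finCoh k X (isCoh_tensor hQc hLc))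
  change Curv2.euler k X (CohB1.tensorMod (structureModule X) L) =
    Curv2.euler k X (CohB1.tensorMod (ClSub.idealMod D) L) +
      Curv2.euler k X (CohB1.tensorMod (ClSub.quotMod D) L) at e
  rw [euler_congr k e₂, euler_congr k (b₁ ≪≫ e₁),
    euler_tensor_of_supportedAtClosed k hQc hQ (LocFree.isInvertible_iff_ofRank_one.mp hL),
    euler_eq_h0 k hQ] at e
  simp only [Curv2.deg, e]
  push_cast
  ring

end Groth.EulerDeg
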