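import Groth.Agent.EulerDeg.Coherent
import Groth.Agent.QCohMod.Affine
import Groth.Agent.PicAux.Sections

/-!
# Modules supported at closed points
-/

universe u

open CategoryTheory Limits AlgebraicGeometry Coh TopologicalSpace Opposite

namespace Groth.EulerDeg

variable {X : Scheme.{u}}

/-- All points of the support are closed points. -/
def SupportedAtClosed (M : X.Modules) : Prop :=
  ∀ x ∈ CohB1.support M, IsClosed ({x} : Set X)

lemma isZero_stalkAb {M : X.Modules} (h : SupportedAtClosed M) (x : X)
    (hx : ¬ IsClosed ({x} : Set X)) :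
    IsZero ((stalkAb (X := X.toTopCat) x).obj (toAb M)) := by
  have : Subsingleton (M.presheaf.stalk x) := not_not.mp fun hs => hx (h x hs)
  exact @AddCommGrpCat.isZero_of_subsingleton _ this

lemma isFlasque_of_supportedAtClosed [hN : NoetherianSpace X] {M : X.Modules}
    (h : SupportedAtClosed M) : TopCat.Sheaf.IsFlasque (X := X.toTopCat) (toAb M) :=
  have qs : QuasiSober X := inferInstance
  @isFlasque_of_closed_support X.toTopCat hN qs (toAb M) (isZero_stalkAb h)

/-- A module supported at closed points has no higher cohomology. -/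
theorem subsingleton_HH_succ_of_supportedAtClosed [hN : NoetherianSpace X] {M : X.Modules}
    (h : SupportedAtClosed M) (n : ℕ) : Subsingleton (HH X M (n + 1)) :=
  have qs : QuasiSober X := inferInstance
  @subsingleton_H_succ_of_closed_support X.toTopCat hN qs (toAb M) (isZero_stalkAb h) n

lemma subsingleton_HH_of_supportedAtClosed [NoetherianSpace X] {M : X.Modules}
    (h : SupportedAtClosed M) (n : ℕ) (hn : 1 ≤ n) : Subsingleton (HH X M n) := by
  obtain ⟨m, rfl⟩ : ∃ m, n = m + 1 := ⟨n - 1, by omega⟩
  exact subsingleton_HH_succ_of_supportedAtClosed h m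

/-- Every germ of a module supported at closed points comes from a global section. -/
theorem surjective_germ_top [NoetherianSpace X] {M : X.Modules} (h : SupportedAtClosed M) (x : X) :
    Function.Surjective (M.presheaf.germ ⊤ x trivial) := by
  intro t
  obtain ⟨V, hxV, s, rfl⟩ := TopCat.Presheaf.exists_germ_eq M.presheaf t
  have := (Groth.SiteCohomology.isFlasque_iff_surjective (X := X.toTopCat) (toAb M)).mp
    (isFlasque_of_supportedAtClosed h) (homOfLE (le_top : V ≤ ⊤)) s
  obtain ⟨σ, hσ⟩ := this
  refine ⟨σ, ?_⟩
  rw [← hσ]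
  exact (TopCat.Presheaf.germ_res_apply M.presheaf (homOfLE (le_top : V ≤ ⊤)) x hxV σ).symm

/-- A module supported at closed points without global sections is zero. -/
theorem isZero_of_subsingleton_H0 [NoetherianSpace X] {M : X.Modules} (h : SupportedAtClosed M)
    (h0 : Subsingleton (HH X M 0)) : IsZero M := by
  rw [Groth.QCohMod.isZero_iff_support_eq_empty, Set.eq_empty_iff_forall_notMem]
  intro x hx
  have e := Sheaf.H.equiv₀ (toAb M) (isTerminalTop : IsTerminal (⊤ : Opens X))
  have : Subsingleton ((toAb M).obj.obj (op ⊤)) := e.symm.toEquiv.subsingleton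
  exact hx (Function.Surjective.subsingleton (α := (toAb M).obj.obj (op ⊤)) (surjective_germ_top h x))

/-- Support of dimension at most zero consists of closed points. -/
theorem supportedAtClosed_of_dim_le_zero {M : X.Modules} [M.IsQuasicoherent]
    (h : topologicalKrullDim (CohB1.support M) ≤ 0) : SupportedAtClosed M := by
  intro x hx
  refine closure_eq_iff_isClosed.mp (Set.Subset.antisymm (fun y hy => ?_) subset_closure)
  by_contra hne
  have hxy : x ⤳ y := specializes_iff_mem_closure.mpr hy
  have hyS : y ∈ CohB1.support M :=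
    Groth.QCohMod.stableUnderSpecialization_support M hxy hx
  let c : CohB1.support M → IrreducibleCloseds (CohB1.support M) := fun a =>
    ⟨closure {a}, isIrreducible_singleton.closure, isClosed_closure⟩
  have hlt : c ⟨y, hyS⟩ < c ⟨x, hx⟩ := by
    refine lt_of_le_of_ne (show closure ({⟨y, hyS⟩} : Set (CohB1.support M)) ⊆ closure {⟨x, hx⟩} from
      closure_minimal (Set.singleton_subset_iff.mpr
        (specializes_iff_mem_closure.mp ((subtype_specializes_iff _ _).mpr hxy))) isClosed_closure) fun e => ?_
    have e' : closure ({⟨y, hyS⟩} : Set (CohB1.support M)) = closure {⟨x, hx⟩} :=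
      congrArg (fun W : IrreducibleCloseds (CohB1.support M) => (W : Set (CohB1.support M))) e
    have h2 : (⟨y, hyS⟩ : CohB1.support M) ⤳ ⟨x, hx⟩ :=
      specializes_iff_mem_closure.mpr (e' ▸ subset_closure rfl)
    exact hne (((subtype_specializes_iff _ _).mp h2).antisymm hxy).eq
  have h3 : ((1 : ℕ) : WithBot ℕ∞) ≤ topologicalKrullDim (CohB1.support M) :=
    Order.LTSeries.length_le_krullDim
      ⟨1, ![c ⟨y, hyS⟩, c ⟨x, hx⟩], fun i => by fin_cases i; exact hlt⟩
  exact absurd (h3.trans h) (by decide)

variable (k : Type u) [Field k] [X.Over (Spec (CommRingCat.of k))]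

/-- The Euler characteristic of a module supported at closed points is `h⁰`. -/
theorem euler_eq_h0 [NoetherianSpace X] {M : X.Modules} (h : SupportedAtClosed M) :
    Curv2.euler k X M = (Module.finrank k (HH X M 0) : ℤ) := by
  rw [euler_eq_sum (N := 1) fun n hn => subsingleton_HH_of_supportedAtClosed h n hn]
  simp

theorem euler_nonneg [NoetherianSpace X] {M : X.Modules} (h : SupportedAtClosed M) :
    0 ≤ Curv2.euler k X M := by
  rw [euler_eq_h0 k h]
  exact Int.natCast_nonneg _

/-- A coherent module supported at closed points with `χ ≤ 0` vanishes. -/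
theorem isZero_of_euler_nonpos [IsProper (X ↘ Spec (CommRingCat.of k))] {M : X.Modules}
    (hM : IsCoh M) (h : SupportedAtClosed M) (he : Curv2.euler k X M ≤ 0) : IsZero M := by
  have := noetherianSpace_of_proper k X
  rw [euler_eq_h0 k h] at he
  have := finite_HH k X hM 0
  exact isZero_of_subsingleton_H0 h (Module.finrank_zero_iff.mp (by omega : Module.finrank k (HH X M 0) = 0))

end Groth.EulerDeg
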