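import Groth.Agent.EulerDeg.GenericRank
import Groth.Agent.CohFin.PushAffine
import Groth.Agent.Variety2.DimScheme

/-!
# The genus under finite maps of curves
-/

universe u

open CategoryTheory Limits AlgebraicGeometry Coh TopologicalSpace Opposite

namespace Groth.EulerDeg

/-- Every point is a specialization of a point of a given dense open. -/
lemma exists_specializes_mem_of_dense {T : Type u} [TopologicalSpace T] [NoetherianSpace T]
    [QuasiSober T] {U : Set T} (hU : IsOpen U) (hd : Dense U) (x : T) :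
    ∃ η ∈ U, η ⤳ x ∧ IsGenericPoint η (irreducibleComponent x) := by
  obtain ⟨o, ho, hne, hle⟩ := NoetherianSpace.exists_isOpen_nonempty_subset_irreducibleComponent
    (irreducibleComponent x) (irreducibleComponent_mem_irreducibleComponents x)
  obtain ⟨η, hη⟩ := QuasiSober.sober (isIrreducible_irreducibleComponent (x := x))
    isClosed_irreducibleComponent
  obtain ⟨u, huo, huU⟩ := hd.inter_open_nonempty o ho hne
  exact ⟨η, (hη.specializes (hle huo)).mem_open hU huU, hη.specializes mem_irreducibleComponent, hη⟩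

/-- In dimension at most one, dense opens contain the non-closed points. -/
lemma mem_of_dense {X : Scheme.{u}} [NoetherianSpace X] (hdim : topologicalKrullDim X ≤ 1)
    {U : X.Opens} (hd : Dense (U : Set X)) {x : X} (hx : ¬ IsClosed ({x} : Set X)) : x ∈ U := by
  obtain ⟨η, hη, hs, -⟩ := exists_specializes_mem_of_dense U.2 hd x
  rwa [← @eq_of_specializes_of_not_isClosed X.toTopCat (inferInstanceAs (T0Space X))
    (inferInstanceAs (QuasiSober X)) hdim x η hx hs]

variable {X Y : Scheme.{u}}

/-- Where `f` is a closed immersion, `O_X → f_* O_Y` is surjective on stalks. -/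
theorem surjective_stalk_unitToPush (f : Y ⟶ X) (U : X.Opens) [IsClosedImmersion (f ∣_ U)]
    {x : X} (hx : x ∈ U) :
    Function.Surjective ((Groth.QCohMod.stalk x).map (ClSub.unitToPush f)) := by
  intro t
  obtain ⟨W, hxW, s, rfl⟩ := TopCat.Presheaf.exists_germ_eq
    ((Scheme.Modules.pushforward f).obj (Coh.structureModule Y)).presheaf t
  obtain ⟨V, hV, hxV, hVWU⟩ := exists_isAffineOpen_mem_and_subset (U := W ⊓ U) (x := x) ⟨hxW, hx⟩
  obtain ⟨V', rfl⟩ : ∃ V' : U.toScheme.Opens, U.ι ''ᵁ V' = V :=
    ⟨U.ι ⁻¹ᵁ V, by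
      rw [U.ι.image_preimage_eq_opensRange_inf, Scheme.Opens.opensRange_ι]
      exact inf_eq_right.mpr fun y hy => (hVWU hy).2⟩
  have hV' : IsAffineOpen V' := U.ι.isAffineOpen_iff_of_isOpenImmersion.mp hV
  have hs : Function.Surjective (f.app (U.ι ''ᵁ V')) := by
    have h := (f ∣_ U).app_surjective V' hV'
    rw [morphismRestrict_app] at h
    exact Function.Surjective.of_comp_left (f := Y.presheaf.map
      (eqToHom (image_morphismRestrict_preimage f U V')).op)
      (g := f.app (U.ι ''ᵁ V')) h (ConcreteCategory.bijective_of_isIso _).1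
  have hle : U.ι ''ᵁ V' ≤ W := fun y hy => (hVWU hy).1
  obtain ⟨r, hr⟩ := hs
    (((Scheme.Modules.pushforward f).obj (Coh.structureModule Y)).presheaf.map (homOfLE hle).op s)
  refine ⟨(Coh.structureModule X).presheaf.germ _ x hxV r, ?_⟩
  refine (TopCat.Presheaf.stalkFunctor_map_germ_apply _ x hxV
    ((Scheme.Modules.toPresheaf X).map (ClSub.unitToPush f)) r).trans ?_
  refine Eq.trans ?_ (TopCat.Presheaf.germ_res_apply _ (homOfLE hle) x hxV s)
  exact congrArg _ hr

variable (k : Type u) [Field k]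

lemma finrank_le_of_surjective {M N : Type u} [AddCommGroup M] [Module k M] [AddCommGroup N]
    [Module k N] [Module.Finite k M] (φ : M →ₗ[k] N) (h : Function.Surjective φ) :
    Module.finrank k N ≤ Module.finrank k M :=
  LinearMap.finrank_le_finrank_of_surjective h

variable [X.Over (Spec (CommRingCat.of k))] [Y.Over (Spec (CommRingCat.of k))]
  [IsProper (X ↘ Spec (CommRingCat.of k))]

/-- The genus does not increase along a finite map which is a closed immersion over a dense open
of a curve. -/
theorem genus_le_of_isFinite (hdim : topologicalKrullDim X ≤ 1) (f : Y ⟶ X) [IsFinite f]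
    (hf : f ≫ (X ↘ Spec (CommRingCat.of k)) = Y ↘ Spec (CommRingCat.of k))
    (U : X.Opens) (hU : Dense (U : Set X)) [IsClosedImmersion (f ∣_ U)] :
    Curv2.genus k Y ≤ Curv2.genus k X := by
  have := noetherianSpace_of_proper k X
  have hY : IsProper (Y ↘ Spec (CommRingCat.of k)) := hf ▸ inferInstance
  have := compactSpace_of_proper k (X := Y)
  have : Y.IsSeparated := ⟨by
    rw [show Limits.terminal.from Y = (Y ↘ Spec (CommRingCat.of k)) ≫ Limits.terminal.from _ from
      Subsingleton.elim _ _]
    infer_instance⟩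
  have : X.IsSeparated := ⟨by
    rw [show Limits.terminal.from X = (X ↘ Spec (CommRingCat.of k)) ≫ Limits.terminal.from _ from
      Subsingleton.elim _ _]
    infer_instance⟩
  let φ := ClSub.unitToPush f
  have h₁ : (ShortComplex.mk (kernel.ι (Abelian.factorThruImage φ)) (Abelian.factorThruImage φ)
      (kernel.condition _)).ShortExact :=
    { exact := ShortComplex.exact_kernel _ }
  have h₂ : (ShortComplex.mk (Abelian.image.ι φ) (cokernel.π φ) (kernel.condition _)).ShortExact :=
    { exact := ShortComplex.exact_kernel _ }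
  have hc : SupportedAtClosed (cokernel φ) := by
    intro x hx
    by_contra hxc
    apply hx
    have := (AddCommGrpCat.epi_iff_surjective _).mpr
      (surjective_stalk_unitToPush f U (mem_of_dense hdim hU hxc))
    exact AddCommGrpCat.subsingleton_of_isZero
      ((isZero_cokernel_of_epi ((Groth.QCohMod.stalk x).map φ)).of_iso
        (PreservesCokernel.iso (Groth.QCohMod.stalk x) φ))
  have s₁ : Function.Surjective (hMap k (Abelian.factorThruImage φ) 1) := fun y =>
    ((exact_right k h₁ 1) y).1 (@Subsingleton.elim _ (subsingleton_HH_of_dim_le_one X hdim _ 2 le_rfl) _ _)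
  have s₂ : Function.Surjective (hMap k (Abelian.image.ι φ) 1) := fun y =>
    ((exact_mid k h₂ 1) y).1 (@Subsingleton.elim _ (subsingleton_HH_of_supportedAtClosed hc 1 le_rfl) _ _)
  have hOX := finite_HH k X (isCoh_of_isInvertible (isInvertible_structureModule X)) 1
  have := (isCoh_of_isInvertible (isInvertible_structureModule Y)).1
  obtain ⟨e⟩ := Groth.CohFin.nonempty_linearEquiv_push f (X ↘ Spec (CommRingCat.of k)) 1
    (Coh.structureModule Y)
  have e' : HH X ((Scheme.Modules.pushforward f).obj (Coh.structureModule Y)) 1 ≃ₗ[k]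
      Groth.CohFin.HA (Y ↘ Spec (CommRingCat.of k)) (Coh.structureModule Y) 1 := hf ▸ e
  have : Curv2.genus k Y =
      Module.finrank k (HH X ((Scheme.Modules.pushforward f).obj (Coh.structureModule Y)) 1) :=
    e'.finrank_eq.symm
  rw [this]
  exact finrank_le_of_surjective k (((hMap k (Abelian.image.ι φ) 1)).comp
    (hMap k (Abelian.factorThruImage φ) 1)) (s₂.comp s₁)

/-- A proper map to a curve which is birational is finite. -/
theorem isFinite_of_birational (hdim : topologicalKrullDim X ≤ 1) (f : Y ⟶ X) [IsProper f]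
    (hf : f ≫ (X ↘ Spec (CommRingCat.of k)) = Y ↘ Spec (CommRingCat.of k))
    (U : X.Opens) (hU' : Dense ((f ⁻¹ᵁ U : Y.Opens) : Set Y)) [IsIso (f ∣_ U)] :
    IsFinite f := by
  have hY : IsProper (Y ↘ Spec (CommRingCat.of k)) := hf ▸ inferInstance
  have := noetherianSpace_of_proper k Y
  have hh : ∀ u : (f ⁻¹ᵁ U).toScheme, Order.height ((f ⁻¹ᵁ U).ι u) ≤ 1 := fun u => by
    rw [Groth.Variety2.Dim.height_eq_of_isPreimmersion
      ((f ⁻¹ᵁ U).ι ≫ (Y ↘ Spec (CommRingCat.of k))) (Y ↘ Spec (CommRingCat.of k)) (f ⁻¹ᵁ U).ι rfl u,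
      ← Groth.Variety2.Dim.height_eq_of_isPreimmersion
      ((f ⁻¹ᵁ U).ι ≫ (Y ↘ Spec (CommRingCat.of k))) (X ↘ Spec (CommRingCat.of k))
        ((f ∣_ U) ≫ U.ι) (by rw [morphismRestrict_ι, Category.assoc, hf]) u]
    exact WithBot.coe_le_coe.mp ((le_iSup
      (fun x : X => ((Order.height x : ℕ∞) : WithBot ℕ∞)) _).trans
        ((Groth.Variety2.Dim.dim_eq_iSup_height X).symm.trans_le hdim))
  have hclosed : ∀ z : Y, z ∉ f ⁻¹ᵁ U → IsClosed ({z} : Set Y) := by
    intro z hz
    obtain ⟨η, hη, hs, -⟩ := exists_specializes_mem_of_dense (f ⁻¹ᵁ U).2 hU' z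
    have hlt : z < η := lt_of_le_not_ge (Scheme.le_iff_specializes.2 hs)
      fun h => hz ((Scheme.le_iff_specializes.1 h).mem_open (f ⁻¹ᵁ U).2 hη)
    have h0 : Order.height z = 0 := by
      have : Order.height z + 1 ≤ 0 + 1 :=
        (Order.height_add_one_le hlt).trans ((hh ⟨η, hη⟩).trans (by simp))
      exact nonpos_iff_eq_zero.mp (ENat.add_le_add_iff_right ENat.one_ne_top |>.mp this)
    refine closure_eq_iff_isClosed.mp (Set.Subset.antisymm (fun w hw => ?_) subset_closure)
    have hzw : z ⤳ w := specializes_iff_mem_closure.mpr hw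
    exact ((Scheme.le_iff_specializes.1 (Order.height_eq_zero.mp h0
      (Scheme.le_iff_specializes.2 hzw))).antisymm hzw).eq
  have hfin : ((f ⁻¹ᵁ U : Y.Opens) : Set Y)ᶜ.Finite := by
    obtain ⟨S, hSf, hSc, hSi, hS⟩ :=
      NoetherianSpace.exists_finite_set_isClosed_irreducible
        (s := ((f ⁻¹ᵁ U : Y.Opens) : Set Y)ᶜ) (f ⁻¹ᵁ U).2.isClosed_compl
    rw [hS]
    refine hSf.sUnion fun Z hZ => ?_
    obtain ⟨g, hg⟩ := QuasiSober.sober (hSi Z hZ) (hSc Z hZ)
    have hgc := hclosed g (show g ∈ ((f ⁻¹ᵁ U : Y.Opens) : Set Y)ᶜ from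
      hS ▸ Set.mem_sUnion_of_mem hg.mem hZ)
    rw [← hg.def, hgc.closure_eq]
    exact Set.finite_singleton g
  have : LocallyQuasiFinite f := .of_finite_preimage_singleton f fun x => by
    by_cases hx : x ∈ U
    · refine Set.Subsingleton.finite fun a ha b hb => ?_
      have ha' : a ∈ f ⁻¹ᵁ U := show f a ∈ U by rw [Set.mem_singleton_iff.mp ha]; exact hx
      have hb' : b ∈ f ⁻¹ᵁ U := show f b ∈ U by rw [Set.mem_singleton_iff.mp hb]; exact hx
      have hab : (f ∣_ U) ⟨a, ha'⟩ = (f ∣_ U) ⟨b, hb'⟩ := Subtype.ext <| by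
        rw [morphismRestrict_base_coe, morphismRestrict_base_coe]
        exact (Set.mem_singleton_iff.mp ha).trans (Set.mem_singleton_iff.mp hb).symm
      exact congrArg Subtype.val ((f ∣_ U).homeomorph.injective hab)
    · refine hfin.subset fun a ha h => hx ?_
      rw [← (Set.mem_singleton_iff.mp ha)]
      exact h
  exact IsFinite.of_isProper_of_locallyQuasiFinite f

end Groth.EulerDeg
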