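import Groth.Agent.EulerDeg.Tensor

/-!
# Euler characteristic and generic rank on an integral curve
-/

universe u

open CategoryTheory Limits AlgebraicGeometry Coh TopologicalSpace Opposite

namespace Groth.EulerDeg

variable {X : Scheme.{u}}

/-- A map bijective on the stalks at the non-closed points has kernel and cokernel supported at
closed points. -/
theorem supportedAtClosed_of_bijective {A B : X.Modules} (f : A ⟶ B)
    (hf : ∀ x : X, ¬ IsClosed ({x} : Set X) → Function.Bijective ((Groth.QCohMod.stalk x).map f)) :
    SupportedAtClosed (kernel f) ∧ SupportedAtClosed (cokernel f) := by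
  refine ⟨fun x hx => ?_, fun x hx => ?_⟩ <;> by_contra hc <;>
    have := (ConcreteCategory.isIso_iff_bijective _).mpr (hf x hc) <;> apply hx
  · exact AddCommGrpCat.subsingleton_of_isZero
      ((isZero_kernel_of_mono ((Groth.QCohMod.stalk x).map f)).of_iso
        (PreservesKernel.iso (Groth.QCohMod.stalk x) f))
  · exact AddCommGrpCat.subsingleton_of_isZero
      ((isZero_cokernel_of_epi ((Groth.QCohMod.stalk x).map f)).of_iso
        (PreservesCokernel.iso (Groth.QCohMod.stalk x) f))

variable [IsIntegral X]

lemma eq_genericPoint_of_not_isClosed (hdim : topologicalKrullDim X ≤ 1) {x : X}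
    (hx : ¬ IsClosed ({x} : Set X)) : x = genericPoint X :=
  (@eq_of_specializes_of_not_isClosed X.toTopCat (inferInstanceAs (T0Space X))
    (inferInstanceAs (QuasiSober X)) hdim x (genericPoint X) hx
    ((genericPoint_spec X).specializes trivial)).symm

/-- On an integral Noetherian curve a coherent module agrees with `O^r` away from closed points,
`r` being its generic rank. -/
theorem exists_common_coh [IsNoetherian X] (hdim : topologicalKrullDim X ≤ 1) {F : X.Modules}
    (hF : IsCoh F) :
    ∃ (A : X.Modules) (p : A ⟶ F)
      (q : A ⟶ Groth.CohTwo.powMod (structureModule X)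
        (Module.finrank (X.presheaf.stalk (genericPoint X)) (F.presheaf.stalk (genericPoint X)))),
      IsCoh A ∧ SupportedAtClosed (kernel p) ∧ SupportedAtClosed (cokernel p) ∧
        SupportedAtClosed (kernel q) ∧ SupportedAtClosed (cokernel q) := by
  let η := genericPoint X
  let _ : Field (X.presheaf.stalk η) := inferInstanceAs (Field X.functionField)
  have := hF.1
  have := Groth.QCohMod.finite_stalk F hF.2 η
  set r := Module.finrank (X.presheaf.stalk η) (F.presheaf.stalk η) with hr
  have hO : IsCoh (structureModule X) := isCoh_of_isInvertible (isInvertible_structureModule X)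
  have hP := Groth.CohTwo.isCoh_powMod hO r
  have := hP.1
  have := Groth.QCohMod.finite_stalk (Groth.CohTwo.powMod (structureModule X) r) hP.2 η
  have := hO.1
  have := Groth.QCohMod.finite_stalk (structureModule X) hO.2 η
  have h1 : Module.finrank (X.presheaf.stalk η) ((structureModule X).presheaf.stalk η) = 1 :=
    Groth.LocFree.finrank_stalk
      (LocFree.isInvertible_iff_ofRank_one.mp (isInvertible_structureModule X)) η
  have h2 : Module.finrank (X.presheaf.stalk η)
      ((Groth.CohTwo.powMod (structureModule X) r).presheaf.stalk η) = r := by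
    rw [(Groth.CohTwo.powStalk (structureModule X) r η).finrank_eq, Module.finrank_pi_fintype]
    simp [h1]
  obtain ⟨ψ⟩ := FiniteDimensional.nonempty_linearEquiv_of_finrank_eq
    (R := X.presheaf.stalk η) (M := F.presheaf.stalk η)
    (M' := (Groth.CohTwo.powMod (structureModule X) r).presheaf.stalk η) (hr.symm.trans h2.symm)
  obtain ⟨J, γ, hJ, -, hb⟩ := Groth.CohTwo.exists_graft hF hP η ψ.toLinearMap ψ.bijective
  have hι := supportedAtClosed_of_bijective (Dual3.idealMulι J F) fun x hx => by
    obtain rfl := eq_genericPoint_of_not_isClosed hdim hx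
    exact Groth.CohTwo.bijective_stalk_idealMulι J F hJ
  have hγ := supportedAtClosed_of_bijective γ fun x hx => by
    obtain rfl := eq_genericPoint_of_not_isClosed hdim hx
    exact hb
  exact ⟨_, Dual3.idealMulι J F, γ, Groth.CohTwo.isCoh_idealMul J F hF, hι.1, hι.2, hγ.1, hγ.2⟩

variable (k : Type u) [Field k] [X.Over (Spec (CommRingCat.of k))]
  [IsProper (X ↘ Spec (CommRingCat.of k))]

/-- `χ(E ⊗ F) = r deg E + n χ(F)` for `r` the generic rank of `F`. -/
theorem euler_tensor_curve (hdim : topologicalKrullDim X ≤ 1) {E : X.Modules} {n : ℕ}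
    (hE : FlatMod.IsFinLocFreeOfRank n E) {F : X.Modules} (hF : IsCoh F) :
    Curv2.euler k X (CohB1.tensorMod E F) =
      (Module.finrank (X.presheaf.stalk (genericPoint X)) (F.presheaf.stalk (genericPoint X)) : ℤ) *
        Curv2.deg k X E n + n * Curv2.euler k X F := by
  have := isNoetherian_of_proper k X
  obtain ⟨A, p, q, hA, hp, hp', hq, hq'⟩ := exists_common_coh hdim hF
  generalize Module.finrank (X.presheaf.stalk (genericPoint X))
    (F.presheaf.stalk (genericPoint X)) = r at q hq hq' ⊢
  have hO : IsCoh (structureModule X) := isCoh_of_isInvertible (isInvertible_structureModule X)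
  have key : tensorDefect k E n F = r * tensorDefect k E n (structureModule X) := by
    rw [← tensorDefect_powMod k hE hO r,
      ← tensorDefect_eq_of_hom k hE hA (Groth.CohTwo.isCoh_powMod hO r) q hq hq',
      tensorDefect_eq_of_hom k hE hA hF p hp hp']
  obtain ⟨b, -⟩ := Groth.PicAux.exists_braiding E (structureModule X)
  obtain ⟨l, -⟩ := Groth.PicAux.exists_leftUnitor E
  simp only [tensorDefect] at key
  rw [euler_congr k (b ≪≫ l)] at key
  simp only [Curv2.deg]
  linear_combination key

end Groth.EulerDeg
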