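import Groth.Prelude.Def_CohTop
import Mathlib.Topology.Sheaves.Abelian
import Mathlib.Topology.NoetherianSpace
import Mathlib.Topology.Sober
import Mathlib.Topology.KrullDimension

/-!
# Sheaves supported at closed points

On a Noetherian quasi-sober space, an abelian sheaf whose stalks vanish at all non-closed points is
flasque.
-/

universe u

open CategoryTheory Limits TopologicalSpace Opposite

namespace Groth.EulerDeg

variable {X : TopCat.{u}}

/-- The stalk functor on abelian sheaves. -/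
noncomputable abbrev stalkAb (x : X) : CohTop.Ab X ⥤ AddCommGrpCat.{u} :=
  TopCat.Sheaf.forget AddCommGrpCat.{u} X ⋙ TopCat.Presheaf.stalkFunctor AddCommGrpCat.{u} x

/-- A closed subset of a Noetherian quasi-sober space meeting an open set in a set `Z` of closed
points: `Z` is finite and closed. -/
lemma finite_and_isClosed_of_closed_points [NoetherianSpace X] [QuasiSober X] {U Z : Set X}
    (hU : IsOpen U) (hZU : Z ⊆ U) (hZ : closure Z ∩ U ⊆ Z) (hpts : ∀ z ∈ Z, IsClosed ({z} : Set X)) :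
    Z.Finite ∧ IsClosed Z := by
  obtain ⟨S, hSf, hSc, hSi, hS⟩ :=
    NoetherianSpace.exists_finite_set_isClosed_irreducible (isClosed_closure (s := Z))
  have key : ∀ t ∈ S, (t ∩ U).Nonempty → ∃ z ∈ Z, t = {z} := by
    intro t ht hne
    obtain ⟨η, hη⟩ := QuasiSober.sober (hSi t ht) (hSc t ht)
    have hηU : η ∈ U := (hη.mem_open_set_iff hU).mpr hne
    have hηZ : η ∈ Z := hZ ⟨hS ▸ Set.subset_sUnion_of_mem ht hη.mem, hηU⟩
    exact ⟨η, hηZ, by rw [← hη.def, (hpts η hηZ).closure_eq]⟩
  have hfin : Z.Finite := by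
    have hS' : ({t ∈ S | (t ∩ U).Nonempty}).Finite := hSf.subset fun t ht => ht.1
    refine (hS'.sUnion fun t ht => ?_).subset ?_
    · obtain ⟨z, -, rfl⟩ := key t ht.1 ht.2
      exact Set.finite_singleton z
    · intro z hz
      have hz' : z ∈ ⋃₀ S := hS ▸ subset_closure hz
      obtain ⟨t, ht, hzt⟩ := hz'
      exact ⟨t, ⟨ht, z, hzt, hZU hz⟩, hzt⟩
  refine ⟨hfin, ?_⟩
  rw [← Set.biUnion_of_singleton Z]
  exact hfin.isClosed_biUnion hpts

/-- Two-open gluing: a section extends by zero off a closed set. -/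
lemma exists_extend (F : CohTop.Ab X) {U W : Opens X} (hcov : U ⊔ W = ⊤)
    (s : F.obj.obj (op U)) (hs : F.obj.map (homOfLE (inf_le_left : U ⊓ W ≤ U)).op s = 0) :
    ∃ t : F.obj.obj (op ⊤), F.obj.map (homOfLE (le_top : U ≤ ⊤)).op t = s := by
  let O : Bool → Opens X := fun b => if b then U else W
  let sf : ∀ b, ToType (F.obj.obj (op (O b))) := fun b => match b with
    | true => s
    | false => 0
  have hcomp : TopCat.Presheaf.IsCompatible F.obj O sf := by
    intro a b
    cases a <;> cases b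
    · rfl
    · simp only [sf, map_zero]
      refine ((?_ : _ = F.obj.map (homOfLE (le_of_eq (inf_comm W U))).op
        (F.obj.map (homOfLE (inf_le_left : U ⊓ W ≤ U)).op s)).trans ?_).symm
      · rw [← ConcreteCategory.comp_apply, ← Functor.map_comp]
        rfl
      · rw [hs, map_zero]
    · simp only [sf, map_zero]
      exact hs
    · rfl
  obtain ⟨t, ht, -⟩ := TopCat.Sheaf.existsUnique_gluing' (X := X) F O ⊤
    (fun b => homOfLE le_top) (by rw [← hcov]; exact sup_le (le_iSup O true) (le_iSup O false))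
    sf hcomp
  exact ⟨t, ht true⟩

/-- A sheaf with zero stalks away from the closed points is flasque. -/
theorem isFlasque_of_closed_support [NoetherianSpace X] [QuasiSober X] (F : CohTop.Ab X)
    (hF : ∀ x : X, ¬ IsClosed ({x} : Set X) → IsZero ((stalkAb x).obj F)) :
    TopCat.Sheaf.IsFlasque F := by
  refine ⟨fun {U V} i => (AddCommGrpCat.epi_iff_surjective _).2 fun s => ?_⟩
  let Z : Set X := {x | ∃ hx : x ∈ V.unop, TopCat.Presheaf.germ F.obj V.unop x hx s ≠ 0}
  have hZU : Z ⊆ V.unop := fun x hx => hx.1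
  have hopen : ∀ x ∈ V.unop, x ∉ Z → ∃ W : Opens X, x ∈ W ∧ ∀ y ∈ W, y ∉ Z := by
    intro x hx hxZ
    have h0 : TopCat.Presheaf.germ F.obj V.unop x hx s = TopCat.Presheaf.germ F.obj V.unop x hx 0 := by
      rw [map_zero]; by_contra h; exact hxZ ⟨hx, h⟩
    obtain ⟨W, hxW, iU, iV, he⟩ := TopCat.Presheaf.germ_eq F.obj x hx hx s 0 h0
    refine ⟨W, hxW, fun y hy hyZ => hyZ.2 ?_⟩
    rw [← TopCat.Presheaf.germ_res_apply F.obj iU y hy s, he, map_zero, map_zero]
  have hcl : closure Z ∩ V.unop ⊆ Z := by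
    rintro x ⟨hxc, hxV⟩
    by_contra hxZ
    obtain ⟨W, hxW, hW⟩ := hopen x hxV hxZ
    obtain ⟨y, hyW, hyZ⟩ := mem_closure_iff.mp hxc W W.isOpen hxW
    exact hW y hyW hyZ
  have hpts : ∀ z ∈ Z, IsClosed ({z} : Set X) := by
    rintro z ⟨hz, hne⟩
    by_contra h
    have := AddCommGrpCat.subsingleton_of_isZero (hF z h)
    exact hne (Subsingleton.elim (α := (stalkAb z).obj F) _ _)
  obtain ⟨-, hZc⟩ := finite_and_isClosed_of_closed_points V.unop.isOpen hZU hcl hpts
  let W : Opens X := ⟨Zᶜ, hZc.isOpen_compl⟩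
  obtain ⟨t, ht⟩ := exists_extend F (U := V.unop) (W := W)
    (top_unique fun x _ => (em (x ∈ Z)).elim (fun h => Or.inl (hZU h)) Or.inr) s
    (TopCat.Presheaf.section_ext (X := X) F _ _ _ fun x hx => by
      rw [TopCat.Presheaf.germ_res_apply, map_zero]
      by_contra h
      exact hx.2 ⟨hx.1, h⟩)
  refine ⟨F.obj.map (homOfLE (le_top : U.unop ≤ ⊤)).op t, ?_⟩
  rw [← ConcreteCategory.comp_apply, ← Functor.map_comp]
  exact ht

end Groth.EulerDeg
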