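import Groth.Agent.EulerDeg.FiniteSupport
import Groth.Agent.CohTwo.Graft
import Groth.Agent.CohTwo.FiniteSum
import Groth.Agent.QCohMod.OpenSupport
import Groth.Agent.S9515

/-!
# A locally free module of rank `n` on a curve agrees with `O^n` away from closed points
-/

universe u

open CategoryTheory Limits AlgebraicGeometry Coh TopologicalSpace Opposite

namespace Groth.EulerDeg

open Groth.PicAux

variable {X : Scheme.{u}}

/-- Bases on pairwise disjoint opens give a basis on their union. -/
theorem exists_basis_iSup {ι : Type} [Fintype ι] (U : ι → X.Opens)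
    (hd : ∀ i j, i ≠ j → U i ⊓ U j = ⊥) {M : X.Modules} {n : ℕ}
    (hb : ∀ i, ∃ s : Fin n → Γ(M, U i), Basis' M (U i) s) :
    ∃ s : Fin n → Γ(M, iSup U), Basis' M (iSup U) s := by
  classical
  choose s hs using hb
  have glue : ∀ a : Fin n, ∃ t : Γ(M, iSup U), ∀ i, res M (le_iSup U i) t = s i a := by
    intro a
    obtain ⟨t, ht, -⟩ := res_glue (M := M) U (le_iSup U) le_rfl (fun i => s i a) (fun i j => by
      by_cases hij : i = j
      · subst hij; rfl
      · exact res_ext (fun _ : PEmpty.{1} => (⊥ : X.Opens)) (fun e => e.elim)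
          (by rw [hd i j hij]; exact bot_le) (fun e => e.elim))
    exact ⟨t, ht⟩
  choose t ht using glue
  refine ⟨t, fun V hV => ?_⟩
  have hcov : V ≤ ⨆ i, V ⊓ U i := by
    rw [← inf_iSup_eq]; exact le_inf le_rfl hV
  have hres : ∀ (i : ι) (r : Fin n → Γ(X, V)),
      res M (inf_le_left : V ⊓ U i ≤ V) (∑ a, r a • res M hV (t a)) =
        ∑ a, resX X (inf_le_left : V ⊓ U i ≤ V) (r a) • res M (inf_le_right : V ⊓ U i ≤ U i) (s i a) := by
    intro i r
    rw [res_sum]
    refine Finset.sum_congr rfl fun a _ => ?_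
    rw [res_smul, res_res, ← ht a i, res_res]
  constructor
  · intro r r' e
    funext a
    refine TopCat.Sheaf.eq_of_locally_eq' X.sheaf (fun i => V ⊓ U i) V
      (fun i => homOfLE inf_le_left) hcov _ _ fun i => ?_
    have h1 := congrArg (res M (inf_le_left : V ⊓ U i ≤ V)) e
    rw [hres, hres] at h1
    exact congrFun ((hs i _ inf_le_right).1 h1) a
  · intro m
    choose c hc using fun i => (hs i _ (inf_le_right : V ⊓ U i ≤ U i)).2 (res M inf_le_left m)
    have hr : ∀ a : Fin n, ∃ r : Γ(X, V), ∀ i, resX X (inf_le_left : V ⊓ U i ≤ V) r = c i a := by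
      intro a
      obtain ⟨r, hr, -⟩ := TopCat.Sheaf.existsUnique_gluing' X.sheaf (fun i => V ⊓ U i) V
        (fun i => homOfLE inf_le_left) hcov (fun i => c i a) (fun i j => by
          by_cases hij : i = j
          · subst hij; rfl
          · have : (V ⊓ U i) ⊓ (V ⊓ U j) ≤ (⊥ : X.Opens) := by
              rw [← hd i j hij]
              exact le_inf (inf_le_left.trans inf_le_right) (inf_le_right.trans inf_le_right)
            exact TopCat.Sheaf.eq_of_locally_eq' X.sheaf (fun _ : PEmpty.{1} => (⊥ : X.Opens)) _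
              (fun e => e.elim) (this.trans bot_le) _ _ fun e => e.elim)
      exact ⟨r, hr⟩
    choose r hr using hr
    refine ⟨r, res_ext (fun i => V ⊓ U i) (fun _ => inf_le_left) hcov fun i => ?_⟩
    rw [hres, ← hc i]
    exact Finset.sum_congr rfl fun a _ => by rw [hr a i]

/-- In dimension at most one, finitely many points that are not closed have pairwise disjoint
neighbourhoods, contained in prescribed ones. -/
theorem exists_disjoint_nhds [NoetherianSpace X] (hdim : topologicalKrullDim X ≤ 1)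
    (P : X → X.Opens) (hP : ∀ x, x ∈ P x) :
    ∃ (m : ℕ) (η : Fin m → X) (U : Fin m → X.Opens),
      (∀ i, U i ≤ P (η i)) ∧ (∀ i j, i ≠ j → U i ⊓ U j = ⊥) ∧
        ∀ x : X, ¬ IsClosed ({x} : Set X) → ∃ i, x ∈ U i := by
  classical
  have t0 : T0Space X := inferInstance
  have qs : QuasiSober X := inferInstance
  have hN := @finite_not_isClosed X.toTopCat ‹_› t0 qs hdim
  let S : Set X := {x | ¬ IsClosed ({x} : Set X)}
  have : Fintype S := hN.fintype
  let η : Fin (Fintype.card S) → X := fun i => ((Fintype.equivFin S).symm i).1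
  have hη : Function.Injective η := Subtype.val_injective.comp (Fintype.equivFin S).symm.injective
  obtain ⟨T, hTf, hTc, hTi, hT⟩ :=
    NoetherianSpace.exists_finite_set_isClosed_irreducible (α := X) isClosed_univ
  let C : Fin (Fintype.card S) → X.Opens := fun i =>
    ⟨(⋃ t ∈ {t | t ∈ T ∧ ¬ IsGenericPoint (η i) t}, t)ᶜ,
      ((hTf.subset fun t ht => ht.1).isClosed_biUnion fun t ht => hTc t ht.1).isOpen_compl⟩
  refine ⟨_, η, fun i => P (η i) ⊓ C i, fun i => inf_le_left, fun i j hij => ?_, fun x hx => ?_⟩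
  · refine Opens.ext (Set.eq_empty_iff_forall_notMem.mpr fun z hz => ?_)
    obtain ⟨⟨-, hzi⟩, -, hzj⟩ := hz
    obtain ⟨t, ht, hzt⟩ := (hT ▸ Set.mem_univ z : z ∈ ⋃₀ T)
    by_cases h1 : IsGenericPoint (η i) t
    · by_cases h2 : IsGenericPoint (η j) t
      · exact hij (hη (h1.eq h2))
      · exact hzj (Set.mem_biUnion (show t ∈ {t | t ∈ T ∧ ¬ IsGenericPoint (η j) t} from ⟨ht, h2⟩) hzt)
    · exact hzi (Set.mem_biUnion (show t ∈ {t | t ∈ T ∧ ¬ IsGenericPoint (η i) t} from ⟨ht, h1⟩) hzt)
  · refine ⟨Fintype.equivFin S ⟨x, hx⟩, ?_, ?_⟩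
    · have e : η (Fintype.equivFin S ⟨x, hx⟩) = x := by simp [η]
      show x ∈ P (η _)
      rw [e]
      exact hP x
    · intro hmem
      obtain ⟨t, ⟨htT, hgen⟩, hxt⟩ := Set.mem_iUnion₂.mp hmem
      have e : η (Fintype.equivFin S ⟨x, hx⟩) = x := by simp [η]
      obtain ⟨g, hg⟩ := QuasiSober.sober (hTi t htT) (hTc t htT)
      have : g = x := @eq_of_specializes_of_not_isClosed X.toTopCat t0 qs hdim x g hx (hg.specializes hxt)
      rw [e] at hgen
      exact hgen (this ▸ hg)

/-- A map of modules whose restriction to `U` is an isomorphism, where `U` contains the non-closed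
points, has kernel and cokernel supported at closed points. -/
theorem supportedAtClosed_kernel_cokernel {A B : X.Modules} (f : A ⟶ B) (U : X.Opens)
    (hU : ∀ x : X, ¬ IsClosed ({x} : Set X) → x ∈ U)
    [IsIso ((Scheme.Modules.restrictFunctor U.ι).map f)] :
    SupportedAtClosed (kernel f) ∧ SupportedAtClosed (cokernel f) := by
  have hbij : ∀ x ∈ U, IsIso ((Groth.QCohMod.stalk x).map f) := fun x hx =>
    (NatIso.isIso_map_iff (Scheme.Modules.restrictStalkNatIso U.ι ⟨x, hx⟩) f).mp
      (by dsimp only [Functor.comp_map]; infer_instance)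
  refine ⟨fun x hx => ?_, fun x hx => ?_⟩ <;> by_contra hc <;>
    have := hbij x (hU x hc) <;> apply hx
  · exact AddCommGrpCat.subsingleton_of_isZero
      ((isZero_kernel_of_mono ((Groth.QCohMod.stalk x).map f)).of_iso
        (PreservesKernel.iso (Groth.QCohMod.stalk x) f))
  · exact AddCommGrpCat.subsingleton_of_isZero
      ((isZero_cokernel_of_epi ((Groth.QCohMod.stalk x).map f)).of_iso
        (PreservesCokernel.iso (Groth.QCohMod.stalk x) f))

/-- A locally free module of rank `n` receives and sends, from a common coherent module, maps to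
`O^n` and to itself which are isomorphisms on an open containing the non-closed points. -/
theorem exists_common (X : Scheme.{u}) [IsNoetherian X] (hdim : topologicalKrullDim X ≤ 1)
    {E : X.Modules} {n : ℕ} (hE : FlatMod.IsFinLocFreeOfRank n E) :
    ∃ (A : X.Modules) (p : A ⟶ E) (q : A ⟶ Groth.CohTwo.powMod (structureModule X) n)
      (U : X.Opens), IsCoh A ∧ (∀ x : X, ¬ IsClosed ({x} : Set X) → x ∈ U) ∧
      IsIso ((Scheme.Modules.restrictFunctor U.ι).map p) ∧
      IsIso ((Scheme.Modules.restrictFunctor U.ι).map q) := by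
  choose V s hxV hs using fun x => Groth.LocFree.isFinLocFreeOfRank_iff.1 hE x
  obtain ⟨m, η, O, hOV, hd, hcov⟩ := exists_disjoint_nhds hdim V hxV
  obtain ⟨t, ht⟩ := exists_basis_iSup O hd (fun i => ⟨_, (hs (η i)).res' (hOV i)⟩)
  obtain ⟨t₀, ht₀⟩ := Groth.LocFree.exists_basis_freeMod (X := X) n
  obtain ⟨e₁⟩ := Groth.LocFree.nonempty_iso_of_basis ht
  obtain ⟨e₂⟩ := Groth.LocFree.nonempty_iso_of_basis (ht₀.res' (le_top : iSup O ≤ ⊤))
  have hEc : IsCoh E := KTheory.LocFree.isCoh (LocFree.isFinLocFree_of_rank hE)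
  have := hEc.1
  let φ : (Scheme.Modules.restrictFunctor (iSup O).ι).obj E ≅
      (Scheme.Modules.restrictFunctor (iSup O).ι).obj (FlatMod.freeMod X n) := e₁ ≪≫ e₂.symm
  let I := Groth.CohTwo.complIdeal (iSup O)
  have hP : IsCoh (FlatMod.freeMod X n) :=
    KTheory.LocFree.isCoh (Groth.LocFree.isFinLocFree_freeMod X n)
  obtain ⟨c, ψ, hψ⟩ := Groth.Agent.S9515.result X (FlatMod.freeMod X n) E hP.1 hEc I (iSup O)
    (Groth.CohTwo.coe_compl_support_complIdeal (iSup O)) φ.hom
  have hA := Groth.CohTwo.isCoh_idealMul (I ^ c) E hEc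
  have hι : IsIso ((Scheme.Modules.restrictFunctor (iSup O).ι).map (Dual3.idealMulι (I ^ c) E)) := by
    refine Groth.QCohMod.isIso_of_stalk _ fun x => ?_
    refine (NatIso.isIso_map_iff (Scheme.Modules.restrictStalkNatIso (iSup O).ι x)
      (Dual3.idealMulι (I ^ c) E)).mpr ?_
    exact (ConcreteCategory.isIso_iff_bijective _).mpr
      (Groth.CohTwo.bijective_stalk_idealMulι (I ^ c) E
        (Groth.CohTwo.notMem_support_pow I (Groth.CohTwo.notMem_support_complIdeal (iSup O) x.2) c))
  refine ⟨_, Dual3.idealMulι (I ^ c) E, ψ, iSup O, hA, fun x hx => ?_, hι, ?_⟩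
  · obtain ⟨i, hi⟩ := hcov x hx
    exact Opens.mem_iSup.2 ⟨i, hi⟩
  · exact hψ ▸ inferInstance

end Groth.EulerDeg
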