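import Groth.Agent.EulerDeg.GenericRank
import Groth.Agent.EulerDeg.CartierDegree
import Groth.Agent.CohTwo.Devissage
import Groth.Agent.CohTwo.CohInduction
import Groth.Agent.Variety2.DimScheme

/-!
# Nef line bundles on curves
-/

universe u

open CategoryTheory Limits AlgebraicGeometry Coh TopologicalSpace Opposite

namespace Groth.EulerDeg

variable {X : Scheme.{u}} (k : Type u) [Field k] [X.Over (Spec (CommRingCat.of k))]
  [IsProper (X ↘ Spec (CommRingCat.of k))]

/-- If `χ(L ⊗ -) - χ(-)` is nonnegative on the integral curves of `X`, it is nonnegative on all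
coherent modules. -/
theorem tensorDefect_nonneg_of_nef (hdim : topologicalKrullDim X ≤ 1) {L : X.Modules}
    (hL : PicF.IsInvertible L)
    (hnef : ∀ C : X.IdealSheafData, IsIntegral C.subscheme →
      topologicalKrullDim (C.support : Set X) = 1 →
        0 ≤ Curv2.euler k X (CohB1.tensorMod (ClSub.quotMod C) L) -
          Curv2.euler k X (ClSub.quotMod C))
    {F : X.Modules} (hF : IsCoh F) : 0 ≤ tensorDefect k L 1 F := by
  have := isNoetherian_of_proper k X
  have hV : FlatMod.IsFinLocFreeOfRank 1 L := LocFree.isInvertible_iff_ofRank_one.mp hL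
  refine Groth.CohTwo.coh_induction (fun M => IsCoh M → 0 ≤ tensorDefect k L 1 M) ?_ ?_ ?_ Set.univ ?_
    isClosed_univ F hF (Set.subset_univ _) hF
  · rintro M N ⟨e⟩ h hN
    have := h (Groth.QCohMod.isCoh_of_iso e.symm hN)
    have ea : Curv2.euler k X (CohB1.tensorMod L M) = Curv2.euler k X (CohB1.tensorMod L N) :=
      euler_congr k (((DCoh.tensorBi (X := X)).obj L).mapIso e)
    have eb : Curv2.euler k X M = Curv2.euler k X N := euler_congr k e
    simpa only [tensorDefect, ea, eb] using this
  · intro M hM hMc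
    rw [tensorDefect_of_supportedAtClosed k hV hMc]
    intro x hx
    exact absurd hx ((Groth.QCohMod.isZero_iff_support_eq_empty M).mp hM ▸ Set.notMem_empty x)
  · intro S hS h₁ h₂ h₃ p₁ p₃ _
    rw [tensorDefect_add k hV hS h₁ h₂ h₃]
    exact add_nonneg (p₁ h₁) (p₃ h₃)
  intro Y ξ hY _ M hM hkill _ _
  have hMY : CohB1.support M ⊆ (Y : Set X) := by
    have := hM.1
    refine hkill.support_subset.trans ?_
    rw [Scheme.IdealSheafData.coe_support_vanishingIdeal]
  have := hM.1
  by_cases hξ : IsClosed ({ξ} : Set X)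
  · rw [tensorDefect_of_supportedAtClosed k hV hM]
    intro x hx
    have hxY := hMY hx
    rw [hY, hξ.closure_eq] at hxY
    rwa [Set.mem_singleton_iff.mp hxY]
  have hint := Groth.CohTwo.isIntegral_closure_subscheme hY
  let C := Scheme.IdealSheafData.vanishingIdeal Y
  have hO : IsCoh (structureModule C.subscheme) := isCoh_of_isInvertible (isInvertible_structureModule _)
  obtain ⟨hG, hGY, hGne, hGk⟩ := Groth.CohTwo.push_closure_witness hY
    (structureModule C.subscheme) hO
    (Module.nontrivial_of_finrank_eq_succ (R := C.subscheme.presheaf.stalk (genericPoint C.subscheme))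
      (n := 0) (Groth.LocFree.finrank_stalk
        (LocFree.isInvertible_iff_ofRank_one.mp (isInvertible_structureModule C.subscheme)) _))
  change IsCoh (ClSub.quotMod C) at hG
  change CohB1.support (ClSub.quotMod C) ⊆ _ at hGY
  obtain ⟨n, m, hn, ⟨e⟩⟩ := Groth.CohTwo.exists_pow_stalk_iso hM hG ξ
    (fun a ha z => hkill.stalk_maximalIdeal hY a ha z) hGk
  have hFn := Groth.CohTwo.isCoh_powMod hM n
  have hGm := Groth.CohTwo.isCoh_powMod hG m
  have := hFn.1
  obtain ⟨J, γ, hξJ, hγ, hbij⟩ :=
    Groth.CohTwo.exists_graft hFn hGm ξ e.toLinearMap e.bijective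
  have hJ := Groth.CohTwo.isCoh_idealMul J (Groth.CohTwo.powMod M n) hFn
  have hloc : ∀ x : X, ¬ IsClosed ({x} : Set X) → x = ξ ∨ x ∉ (Y : Set X) := by
    intro x hx
    refine (em (x ∈ (Y : Set X))).imp (fun hxY => ?_) id
    rw [hY] at hxY
    exact (@eq_of_specializes_of_not_isClosed X.toTopCat (inferInstanceAs (T0Space X))
      (inferInstanceAs (QuasiSober X)) hdim x ξ hx (specializes_iff_mem_closure.mpr hxY)).symm
  have hbij' : ∀ {A B : X.Modules} (f : A ⟶ B), CohB1.support A ⊆ Y → CohB1.support B ⊆ Y →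
      Function.Bijective ((Groth.QCohMod.stalk ξ).map f) →
      SupportedAtClosed (kernel f) ∧ SupportedAtClosed (cokernel f) := by
    intro A B f hA hB hf
    refine supportedAtClosed_of_bijective f fun x hx => ?_
    rcases hloc x hx with rfl | hxY
    · exact hf
    · have : Subsingleton (A.presheaf.stalk x) := not_not.mp fun h => hxY (hA h)
      have : Subsingleton (B.presheaf.stalk x) := not_not.mp fun h => hxY (hB h)
      exact ⟨Function.injective_of_subsingleton (α := A.presheaf.stalk x) _,
        fun b => ⟨0, Subsingleton.elim (α := B.presheaf.stalk x) _ _⟩⟩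
  have hFnY : CohB1.support (Groth.CohTwo.powMod M n) ⊆ Y :=
    (Groth.CohTwo.support_powMod_subset M n).trans hMY
  have hJY : CohB1.support ((Dual3.idealMul J).obj (Groth.CohTwo.powMod M n)) ⊆ Y :=
    (Groth.CohTwo.support_subset_of_mono (Dual3.idealMulι J _)).trans hFnY
  obtain ⟨k₁, c₁⟩ := hbij' γ hJY ((Groth.CohTwo.support_powMod_subset _ m).trans hGY) hbij
  obtain ⟨k₂, c₂⟩ := hbij' (Dual3.idealMulι J (Groth.CohTwo.powMod M n)) hJY hFnY
    (Groth.CohTwo.bijective_stalk_idealMulι J _ hξJ)
  have key : (n : ℤ) * tensorDefect k L 1 M = m * tensorDefect k L 1 (ClSub.quotMod C) := by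
    rw [← tensorDefect_powMod k hV hM n, ← tensorDefect_powMod k hV hG m,
      ← tensorDefect_eq_of_hom k hV hJ hGm γ k₁ c₁,
      tensorDefect_eq_of_hom k hV hJ hFn _ k₂ c₂]
  have hC : 0 ≤ tensorDefect k L 1 (ClSub.quotMod C) := by
    obtain ⟨b, -⟩ := Groth.PicAux.exists_braiding L (ClSub.quotMod C)
    rw [tensorDefect, euler_congr k b]
    refine le_of_le_of_eq (hnef C hint ?_) (by simp)
    rw [Scheme.IdealSheafData.coe_support_vanishingIdeal, hY,
      Groth.Variety2.Dim.dim_closure_singleton]
    refine le_antisymm (((le_iSup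
      (fun x : X => ((Order.height x : ℕ∞) : WithBot ℕ∞)) ξ)).trans
        ((Groth.Variety2.Dim.dim_eq_iSup_height X).symm.trans_le hdim)) ?_
    refine WithBot.coe_le_coe.mpr (Order.one_le_iff_pos.mpr (pos_iff_ne_zero.mpr fun h0 => hξ ?_))
    refine closure_eq_iff_isClosed.mp (Set.Subset.antisymm (fun w hw => ?_) subset_closure)
    have hzw : ξ ⤳ w := specializes_iff_mem_closure.mpr hw
    exact ((Scheme.le_iff_specializes.1 (Order.height_eq_zero.mp h0
      (Scheme.le_iff_specializes.2 hzw))).antisymm hzw).eq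
  have h0 : (0 : ℤ) ≤ (n : ℤ) * tensorDefect k L 1 M := key ▸ mul_nonneg (Int.natCast_nonneg m) hC
  exact nonneg_of_mul_nonneg_right h0 (by exact_mod_cast hn)

end Groth.EulerDeg
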